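import Cfsg.Agent.Lib.Goldschmidt.Main
import Cfsg.Agent.Lib.CI.Cover
import Cfsg.Agent.Lib.Goldschmidt.Local.Component

/-!
# Abelian strongly closed subgroups and their involutions

The involutions of an abelian strongly closed subgroup form an elementary one; and the lemma on groups of order sixteen
that kills the centre of a component.
-/

set_option autoImplicit false
set_option linter.style.haveILetI false
set_option linter.unusedSectionVars false

namespace Cfsg.Agent.Goldschmidt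

open Subgroup
open Cfsg.Agent.Local.SCA (SC)
open scoped commutatorElement

universe u

variable {Y : Type u} [Group Y] [Finite Y] {A : Subgroup Y}

omit [Finite Y] in
theorem mem_invPart {hA : IsMulCommutative ↥A} {x : Y} : x ∈ invPart A hA ↔ x ∈ A ∧ x * x = 1 := Iff.rfl

omit [Finite Y] in
theorem invPart_le (hA : IsMulCommutative ↥A) : invPart A hA ≤ A := fun _ h => h.1

/-- The involutions of an abelian strongly closed subgroup form one. -/
theorem sc_invPart (hA : IsMulCommutative ↥A) (hsc : SC A) : SC (invPart A hA) := by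
  obtain ⟨S, hS⟩ := hsc
  refine ⟨S, fun x hx => hS.1 hx.1, fun x hx g hg => ⟨hS.2 x hx.1 g hg, ?_⟩⟩
  rw [show g * x * g⁻¹ * (g * x * g⁻¹) = g * (x * x) * g⁻¹ by group, hx.2, mul_one, mul_inv_cancel]

theorem elem_invPart (hA : IsMulCommutative ↥A) : Cfsg.IsElementaryAbelian 2 (invPart A hA) :=
  ⟨⟨⟨fun a b => Subtype.ext (comm_of_comm hA a.2.1 b.2.1)⟩⟩, fun a ha => (pow_two a).trans ha.2⟩

theorem AbHyp.localHyp (hY : AbHyp Y A) (hb : Below.{u} (Nat.card Y + 1)) : LocalHyp Y (invPart A hY.ab) :=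
  ⟨hY.core, elem_invPart hY.ab, sc_invPart hY.ab hY.sc, hb⟩

/-- A group of order sixteen, elementary modulo a central subgroup of order two, with an automorphism without fixed
points on the quotient is commutative. -/
theorem comm_of_fpf_eight {X : Type u} [Group X] [Finite X] {C : Subgroup X} (hC : C ≤ Subgroup.center X)
    (h2 : Nat.card C = 2) (h8 : C.index = 8) (hsq : ∀ x : X, x * x ∈ C) (ω : MulAut X) (hω : ∀ c ∈ C, ω c = c)
    (hfpf : ∀ x : X, x⁻¹ * ω x ∈ C → x ∈ C) (a b : X) : a * b = b * a := by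
  classical
  have hcC : ∀ x y : X, ⁅x, y⁆ ∈ C := fun x y => by
    have hm : (x⁻¹ * x⁻¹) ∈ Subgroup.center X := hC (hsq x⁻¹)
    rw [show ⁅x, y⁆ = x * y * (x * y) * ((y⁻¹ * (x⁻¹ * x⁻¹)) * y) * (y⁻¹ * y⁻¹) by
      simp only [commutatorElement_def]; group, Subgroup.mem_center_iff.1 hm y⁻¹, inv_mul_cancel_right]
    exact mul_mem (mul_mem (hsq _) (hsq x⁻¹)) (hsq y⁻¹)
  have hc : ∀ x y : X, ⁅x, y⁆ ∈ Subgroup.center X := fun x y => hC (hcC x y)
  by_contra hab
  set c := ⁅a, b⁆ with hcdef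
  have hc1 : c ≠ 1 := fun h => hab (commutatorElement_eq_one_iff_mul_comm.1 h)
  have hC' : ∀ z ∈ C, z = 1 ∨ z = c := fun z hz => by
    obtain ⟨w, -, huniq⟩ := (Nat.card_eq_two_iff' (1 : C)).1 h2
    by_cases h1 : z = 1
    · exact Or.inl h1
    right
    have e1 : (⟨z, hz⟩ : C) = w := huniq _ fun e => h1 (congrArg Subtype.val e)
    have e2 : (⟨c, hcC a b⟩ : C) = w := huniq _ fun e => hc1 (congrArg Subtype.val e)
    exact congrArg Subtype.val (e1.trans e2.symm)
  have hcc : c * c = 1 := (hC' _ (mul_mem (hcC a b) (hcC a b))).resolve_right fun e => hc1 (mul_eq_left.1 e)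
  have hci : ⁅b, a⁆ = c := by rw [← commutatorElement_inv]; exact inv_eq_of_mul_eq_one_left hcc
  let φ : X →* C × C := MonoidHom.mk' (fun x => (⟨⁅a, x⁆, hcC a x⟩, ⟨⁅b, x⁆, hcC b x⟩)) fun x y =>
    Prod.ext (Subtype.ext (CI.comm_mul_right hc a x y)) (Subtype.ext (CI.comm_mul_right hc b x y))
  have hker : ∀ x, x ∈ φ.ker ↔ ⁅a, x⁆ = 1 ∧ ⁅b, x⁆ = 1 := fun x => by
    simp [φ, MonoidHom.mem_ker, Prod.ext_iff, Subtype.ext_iff]
  have hφs : Function.Surjective φ := by
    rintro ⟨⟨u, hu⟩, ⟨v, hv⟩⟩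
    have h11 : ⁅a, a⁆ = 1 := commutatorElement_self a
    have h22 : ⁅b, b⁆ = 1 := commutatorElement_self b
    rcases hC' u hu with rfl | rfl <;> rcases hC' v hv with rfl | rfl
    · exact ⟨1, by rw [map_one]; rfl⟩
    · exact ⟨a, Prod.ext (Subtype.ext h11) (Subtype.ext hci)⟩
    · exact ⟨b, Prod.ext (Subtype.ext rfl) (Subtype.ext h22)⟩
    · refine ⟨a * b, Prod.ext (Subtype.ext ?_) (Subtype.ext ?_)⟩
      · show ⁅a, a * b⁆ = c
        rw [CI.comm_mul_right hc, h11, one_mul]
      · show ⁅b, a * b⁆ = c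
        rw [CI.comm_mul_right hc, h22, mul_one, hci]
  have hX : Nat.card X = 16 := by rw [← C.card_mul_index, h2, h8]
  have hK4 : Nat.card φ.ker = 4 := by
    have h := φ.ker.card_mul_index
    rw [Subgroup.index, Nat.card_congr (QuotientGroup.quotientKerEquivOfSurjective φ hφs).toEquiv, Nat.card_prod, h2,
      hX] at h
    omega
  haveI : Fact (Nat.Prime 2) := ⟨Nat.prime_two⟩
  have hKab : ∀ k ∈ φ.ker, ∀ l ∈ φ.ker, k * l = l * k := fun k hk l hl => congrArg Subtype.val
    ((IsPGroup.isMulCommutative_of_card_eq_prime_sq (p := 2) (hK4.trans (by norm_num))).is_comm.comm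
      (⟨k, hk⟩ : φ.ker) ⟨l, hl⟩)
  have hKc : ∀ k ∈ φ.ker, k ∈ Subgroup.center X := fun k hk => by
    obtain ⟨hka, hkb⟩ := (hker k).1 hk
    have hka' : a * k = k * a := commutatorElement_eq_one_iff_mul_comm.1 hka
    have hkb' : b * k = k * b := commutatorElement_eq_one_iff_mul_comm.1 hkb
    refine Subgroup.mem_center_iff.2 fun x => ?_
    obtain ⟨y, hy, l, hl, rfl⟩ : ∃ y, (y * k = k * y) ∧ ∃ l ∈ φ.ker, x = y * l := by
      by_cases h1 : ⁅a, x⁆ = 1 <;> by_cases h2' : ⁅b, x⁆ = 1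
      · exact ⟨1, by rw [one_mul, mul_one], x, (hker x).2 ⟨h1, h2'⟩, (one_mul x).symm⟩
      all_goals have hb' := (hC' _ (hcC b x))
      all_goals have ha' := (hC' _ (hcC a x))
      · refine ⟨a, hka', a⁻¹ * x, ?_, (mul_inv_cancel_left a x).symm⟩
        rw [MonoidHom.mem_ker, map_mul, map_inv, inv_mul_eq_one]
        exact Prod.ext (Subtype.ext ((commutatorElement_self a).trans h1.symm))
          (Subtype.ext (hci.trans (hb'.resolve_left h2').symm))
      · refine ⟨b, hkb', b⁻¹ * x, ?_, (mul_inv_cancel_left b x).symm⟩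
        rw [MonoidHom.mem_ker, map_mul, map_inv, inv_mul_eq_one]
        exact Prod.ext (Subtype.ext (ha'.resolve_left h1).symm)
          (Subtype.ext ((commutatorElement_self b).trans h2'.symm))
      · refine ⟨a * b, by rw [mul_assoc, hkb', ← mul_assoc, hka', mul_assoc], (a * b)⁻¹ * x, ?_,
          (mul_inv_cancel_left _ x).symm⟩
        rw [MonoidHom.mem_ker, map_mul, map_inv, inv_mul_eq_one]
        refine Prod.ext (Subtype.ext ?_) (Subtype.ext ?_)
        · show ⁅a, a * b⁆ = ⁅a, x⁆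
          rw [CI.comm_mul_right hc, commutatorElement_self, one_mul, ha'.resolve_left h1]
        · show ⁅b, a * b⁆ = ⁅b, x⁆
          rw [CI.comm_mul_right hc, commutatorElement_self, mul_one, hb'.resolve_left h2', hci]
    rw [mul_assoc, hKab l hl k hk, ← mul_assoc, hy, mul_assoc]
  have hcK : ∀ k ∈ Subgroup.center X, k ∈ φ.ker := fun k hk => (hker k).2
    ⟨commutatorElement_eq_one_iff_mul_comm.2 (Subgroup.mem_center_iff.1 hk a),
      commutatorElement_eq_one_iff_mul_comm.2 (Subgroup.mem_center_iff.1 hk b)⟩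
  obtain ⟨r, hr, hrC⟩ : ∃ r ∈ φ.ker, r ∉ C := by
    by_contra hcon
    push Not at hcon
    have := Subgroup.card_le_of_le hcon
    omega
  have hωr : ω r ∈ φ.ker := hcK _ (Subgroup.mem_center_iff.2 fun y => by
    have h := congrArg ω (Subgroup.mem_center_iff.1 (hKc r hr) (ω.symm y))
    rwa [map_mul, map_mul, MulEquiv.apply_symm_apply] at h)
  have hωrC : ω r ∉ C := fun h => hrC (by rwa [ω.injective (hω _ h)] at h)
  have hidx : (C.subgroupOf φ.ker).index = 2 := by
    have h := (C.subgroupOf φ.ker).card_mul_index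
    rw [Nat.card_congr (Subgroup.subgroupOfEquivOfLe (fun z hz => hcK z (hC hz))).toEquiv, h2, hK4] at h
    omega
  refine hrC (hfpf r ?_)
  have h3 := (Subgroup.mul_mem_iff_of_index_two hidx (a := (⟨r, hr⟩ : φ.ker)⁻¹) (b := ⟨ω r, hωr⟩)).2
  simp only [Subgroup.mem_subgroupOf, Subgroup.coe_mul, InvMemClass.coe_inv, inv_mem_iff] at h3
  exact h3 (iff_of_false hrC hωrC)

end Cfsg.Agent.Goldschmidt
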