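import Cfsg.Agent.Lib.Goldschmidt.Closed.Quot
import Cfsg.Agent.Lib.CI.Cover

/-!
# A component moved by an abelian strongly closed subgroup

Its centre lies in the subgroup, which meets it in involutions, and every element acts on it as one of these.
-/

set_option autoImplicit false
set_option linter.style.haveILetI false
set_option linter.unusedSectionVars false

namespace Cfsg.Agent.Goldschmidt

open Subgroup Cfsg.Agent Cfsg.Agent.Fusion
open Cfsg.Agent.Solv.AbelianTwo (Ab2)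
open scoped commutatorElement

universe u

variable {Y : Type u} [Group Y] [Finite Y]

/-- What a moved component looks like. -/
structure AbComp (A L : Subgroup Y) (S : Sylow 2 Y) : Prop where
  gType : GType (L ⧸ Subgroup.center L)
  cen : cenL L ≤ A
  sqA : ∀ x ∈ A ⊓ L, x * x = 1
  sq : ∀ x ∈ (S : Subgroup Y) ⊓ L, x * x ∈ A
  invol : ∀ x ∈ (S : Subgroup Y) ⊓ L, x * x ∈ cenL L → x ∈ A
  turn : ∃ n ∈ L, (∀ x ∈ (S : Subgroup Y) ⊓ L, n * x * n⁻¹ ∈ (S : Subgroup Y)) ∧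
    ∀ x ∈ (S : Subgroup Y) ⊓ L, x⁻¹ * (n * x * n⁻¹) ∈ A → x ∈ A
  inner : ∀ u ∈ (S : Subgroup Y), u ∈ normalizer (L : Set Y) → (∀ e ∈ A ⊓ L, u * e = e * u) →
    (∀ x ∈ (S : Subgroup Y) ⊓ L, x⁻¹ * (u * x * u⁻¹) ∈ A) →
    ∃ e ∈ (S : Subgroup Y) ⊓ L, e⁻¹ * u ∈ centralizer (L : Set Y)

namespace AbHyp

variable {A : Subgroup Y} (hY : AbHyp Y A) (hb : Below.{u} (Nat.card Y + 1)) {S : Sylow 2 Y}
  (hAS : A ≤ (S : Subgroup Y))
include hY hb hAS

omit hb in
theorem cenL_le_sylow {L : Subgroup Y} (hL : Cfsg.IsComponent L) : cenL L ≤ (S : Subgroup Y) := fun z hz =>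
  CI.fitting_le_sylow hY.core S (Solv.center_component_le_fitting hL
    ⟨⟨z, hz.1⟩, (mem_center_iff_cenL _).2 hz, rfl⟩)

/-- An involution of a perfect central extension by a group of order two cannot avoid the strongly closed group. -/
theorem center_le {L : Subgroup Y} (hL : Cfsg.IsComponent L) {P : Sylow 2 (L ⧸ Subgroup.center L)}
    {W : Subgroup (L ⧸ Subgroup.center L)} (hQ : QuotData A L S P W) :
    ∀ z ∈ cenL L, z ∈ A ∧ z * z = 1 := by
  classical
  haveI : Fact (Nat.Prime 2) := ⟨Nat.prime_two⟩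
  intro z₀ hz₀
  by_contra hz₀A
  set Z := Subgroup.center L with hZ
  haveI : IsSimpleGroup (L ⧸ Z) := hL.2.2
  haveI := hL.2.1
  have hna := CI.quotient_center_nonab hL.2
  set π := QuotientGroup.mk' Z with hπ
  have hperf : ⁅(⊤ : Subgroup L), (⊤ : Subgroup L)⁆ = ⊤ := by
    rw [← _root_.commutator_def, Group.IsPerfect.commutator_eq_top]
  obtain ⟨P₀, hP₀e⟩ := (CI.comp_sylIn hL S).exists_sylow_subgroupOf
  have hmP : ∀ x : L, x ∈ (P₀ : Subgroup L) ↔ (x : Y) ∈ (S : Subgroup Y) := fun x => by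
    rw [hP₀e, mem_subgroupOf]; exact ⟨fun h => h.1, fun h => ⟨h, x.2⟩⟩
  have hZ2 : IsPGroup 2 Z := CI.comp_center_two hL hY.core
  have hZS : ∀ z ∈ Z, z ∈ (P₀ : Subgroup L) := fun z hz =>
    (hmP z).2 (hY.cenL_le_sylow hAS hL ((mem_center_iff_cenL z).1 hz))
  have hW := hQ.type
  -- the involutions of `A` in the component
  let E : Subgroup L := (invPart A hY.ab).subgroupOf L
  have hmE : ∀ x : L, x ∈ E ↔ (x : Y) ∈ A ∧ (x : Y) * x = 1 := fun x => Iff.rfl
  have hmW : ∀ x : L, π x ∈ W ↔ ∃ e ∈ E, e⁻¹ * x ∈ Z := fun x => by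
    rw [hQ.memW]
    refine ⟨fun ⟨e, he, he2, hc⟩ => ⟨⟨e, he.2⟩, ⟨he.1, he2⟩, (mem_center_iff_cenL _).2 (by simpa using hc)⟩,
      fun ⟨e, he, hc⟩ => ⟨e, ⟨he.1, e.2⟩, he.2, by simpa using (mem_center_iff_cenL _).1 hc⟩⟩
  have hEc : ∀ e ∈ E, ∀ e' ∈ E, e * e' = e' * e := fun e he e' he' => Subtype.ext (hY.mem_comm he.1 he'.1)
  by_cases hab : IsMulCommutative (P : Subgroup (L ⧸ Z))
  · -- then the Sylow subgroup of `L` is commutative
    have hAb2 : Ab2 (L ⧸ Z) := fun Q => ⟨⟨fun a b => (Sylow.equiv Q P).injective (by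
      rw [map_mul, map_mul]; exact hab.is_comm.comm _ _)⟩⟩
    have hsplit : ∀ x ∈ (P₀ : Subgroup L), ∃ e ∈ E, e⁻¹ * x ∈ Z := fun x hx => by
      have hxP : π x ∈ (P : Subgroup (L ⧸ Z)) := (hQ.mem x).2 ((hmP x).1 hx)
      exact (hmW x).1 (hW.invol _ hxP (CI.sq_of_ab2 hna hAb2 P _ hxP))
    have hP₀c : commutator (P₀ : Subgroup L) = ⊥ := by
      rw [_root_.commutator_def, commutator_eq_bot_iff_le_centralizer]
      rintro ⟨a, ha⟩ -
      refine mem_centralizer_iff.2 ?_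
      rintro ⟨b, hb'⟩ -
      refine Subtype.ext ?_
      show b * a = a * b
      obtain ⟨e, he, hea⟩ := hsplit a ha
      obtain ⟨f, hf, hfb⟩ := hsplit b hb'
      have h1 := Subgroup.mem_center_iff.1 hea
      have h2 := Subgroup.mem_center_iff.1 hfb
      calc b * a = f * ((f⁻¹ * b) * e) * (e⁻¹ * a) := by group
        _ = (f * e) * ((f⁻¹ * b) * (e⁻¹ * a)) := by rw [← h2 e]; group
        _ = (e * f) * ((e⁻¹ * a) * (f⁻¹ * b)) := by rw [hEc f hf e he, h1 (f⁻¹ * b)]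
        _ = e * ((e⁻¹ * a) * f) * (f⁻¹ * b) := by rw [← h1 f]; group
        _ = a * b := by group
    have hz := CI.mem_commutator_sylow hperf (z := ⟨z₀, hz₀.1⟩) ((mem_center_iff_cenL _).2 hz₀) P₀
      (hZS _ ((mem_center_iff_cenL _).2 hz₀))
    rw [hP₀c, mem_bot] at hz
    have h1 : z₀ = 1 := congrArg (fun w : (P₀ : Subgroup L) => ((w : L) : Y)) hz
    exact hz₀A ⟨h1 ▸ one_mem A, by rw [h1, one_mul]⟩
  · obtain ⟨H, hH⟩ := hQ.gType.resolve_left fun h => hab (h P)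
    have hZne : Z ≠ ⊥ := fun h => hz₀A (by
      have h1 : (⟨z₀, hz₀.1⟩ : L) ∈ Z := (mem_center_iff_cenL _).2 hz₀
      rw [h, mem_bot] at h1
      have h2 : z₀ = 1 := congrArg Subtype.val h1
      exact ⟨h2 ▸ one_mem A, by rw [h2, one_mul]⟩)
    rcases CI.cover_cases hperf le_rfl hZ2 hZne hna hH P with ⟨-, h4⟩ | ⟨h64, -, h8, hsq⟩
    · exact hab h4
    -- the index of the involutions is eight
    have hWc : W = (Subgroup.center (P : Subgroup (L ⧸ Z))).map (P : Subgroup (L ⧸ Z)).subtype := by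
      refine le_antisymm (fun w hw => ⟨⟨w, hW.le hw⟩, Subgroup.mem_center_iff.2 fun y =>
        Subtype.ext (hW.central w hw y y.2).symm, rfl⟩) ?_
      rintro _ ⟨c, hc, rfl⟩
      exact hW.invol _ c.2 (congrArg Subtype.val (hsq c hc))
    have hW8 : Nat.card W = 8 := by rw [hWc, Subgroup.card_map_of_injective (Subgroup.subtype_injective _), h8]
    let f : (P₀ : Subgroup L) →* (P : Subgroup (L ⧸ Z)) :=
      { toFun := fun y => ⟨π y, (hQ.mem y).2 ((hmP y).1 y.2)⟩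
        map_one' := Subtype.ext (map_one π)
        map_mul' := fun a b => Subtype.ext (map_mul π (a : L) b) }
    have hfs : Function.Surjective f := fun y => by
      obtain ⟨x, hx⟩ := QuotientGroup.mk'_surjective Z (y : L ⧸ Z)
      exact ⟨⟨x, (hmP x).2 ((hQ.mem x).1 (hx.symm ▸ y.2))⟩, Subtype.ext hx⟩
    -- a subgroup of index two of the centre
    obtain ⟨k, hk⟩ := IsPGroup.iff_card.1 hZ2
    let D : Subgroup Z := E.subgroupOf Z
    obtain ⟨d, hd⟩ := IsPGroup.iff_card.1 (hZ2.to_subgroup D)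
    have hdk : d < k := by
      refine lt_of_le_of_ne ((Nat.pow_le_pow_iff_right one_lt_two).1 (hd ▸ hk ▸ D.card_le_card_group)) fun e => ?_
      have htop : D = ⊤ := Subgroup.eq_top_of_card_eq _ (by rw [hd, hk, e])
      exact hz₀A (htop.symm.le (mem_top (⟨⟨z₀, hz₀.1⟩, (mem_center_iff_cenL _).2 hz₀⟩ : Z)))
    obtain ⟨M', hM', hDM⟩ := Sylow.exists_subgroup_card_pow_prime_le 2 (m := k - 1) (G := Z)
      (hk ▸ pow_dvd_pow 2 (Nat.sub_le k 1)) D hd (by omega)
    have hidx : M'.index = 2 := by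
      have h := M'.card_mul_index
      rw [hM', hk, show k = k - 1 + 1 by omega, pow_succ] at h
      simp only [Nat.add_sub_cancel] at h
      exact Nat.eq_of_mul_eq_mul_left (by positivity) h
    set M := M'.map Z.subtype with hM
    have hMZ : M ≤ Z := map_subtype_le _
    have hmemM : ∀ z : Z, (z : L) ∈ M ↔ z ∈ M' := fun z =>
      ⟨fun ⟨w, hw, e⟩ => (Subtype.ext e : w = z) ▸ hw, fun h => mem_map_of_mem _ h⟩
    let R : Subgroup (P₀ : Subgroup L) :=
      { carrier := {x | ∃ e ∈ E, e⁻¹ * (x : L) ∈ M}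
        one_mem' := ⟨1, one_mem _, by simp⟩
        mul_mem' := fun {x y} ⟨e, he, hx⟩ ⟨e', he', hy⟩ => ⟨e * e', mul_mem he he', by
          have h1 := Subgroup.mem_center_iff.1 (hMZ hx) e'⁻¹
          rw [show (e * e')⁻¹ * (((x * y : (P₀ : Subgroup L))) : L) = e'⁻¹ * (e⁻¹ * (x : L)) * y by push_cast; group,
            h1, mul_assoc]
          exact mul_mem hx hy⟩
        inv_mem' := fun {x} ⟨e, he, hx⟩ => ⟨e⁻¹, inv_mem he, by
          have h1 := Subgroup.mem_center_iff.1 (hMZ (inv_mem hx)) e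
          rw [show e⁻¹⁻¹ * ((x⁻¹ : (P₀ : Subgroup L)) : L) = e * ((e⁻¹ * (x : L))⁻¹) * e⁻¹ by push_cast; group, h1,
            mul_inv_cancel_right]
          exact inv_mem hx⟩ }
    have hRmem : ∀ x : (P₀ : Subgroup L), x ∈ R ↔ ∃ e ∈ E, e⁻¹ * (x : L) ∈ M := fun _ => Iff.rfl
    have hEconj : ∀ n : L, (∀ x ∈ (P₀ : Subgroup L), n * x * n⁻¹ ∈ (P₀ : Subgroup L)) → ∀ e ∈ E, n * e * n⁻¹ ∈ E :=
      fun n hn e he => by
        have h1 := (hmP _).1 (hn e ((hmP e).2 (hAS he.1)))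
        refine ⟨?_, ?_⟩
        · push_cast at h1 ⊢
          exact hY.closed hAS he.1 h1
        · show (n : Y) * e * (n : Y)⁻¹ * ((n : Y) * e * (n : Y)⁻¹) = 1
          rw [show (n : Y) * e * (n : Y)⁻¹ * ((n : Y) * e * (n : Y)⁻¹) = (n : Y) * ((e : Y) * e) * (n : Y)⁻¹ by group,
            (show (e : Y) * e = 1 from he.2), mul_one, mul_inv_cancel]
    haveI hRn : R.Normal := ⟨fun x hx g => by
      obtain ⟨e, he, hc⟩ := (hRmem x).1 hx
      refine (hRmem _).2 ⟨(g : L) * e * (g : L)⁻¹,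
        hEconj g (fun y hy => mul_mem (mul_mem g.2 hy) (inv_mem g.2)) e he, ?_⟩
      rw [show ((g : L) * e * (g : L)⁻¹)⁻¹ * (((g * x * g⁻¹ : (P₀ : Subgroup L))) : L) =
        (g : L) * (e⁻¹ * (x : L)) * (g : L)⁻¹ by push_cast; group, Subgroup.mem_center_iff.1 (hMZ hc) g,
        mul_inv_cancel_right]
      exact hc⟩
    set ρ := QuotientGroup.mk' R with hρ
    have hρs : Function.Surjective ρ := QuotientGroup.mk'_surjective R
    set C := ((W.subgroupOf (P : Subgroup (L ⧸ Z))).comap f).map ρ with hC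
    have hmC : ∀ c : (P₀ : Subgroup L), π c ∈ W → ∃ z : Z, ρ c = ρ ⟨z, hZS z z.2⟩ := fun c hc => by
      obtain ⟨e, he, hec⟩ := (hmW c).1 hc
      refine ⟨⟨_, hec⟩, (QuotientGroup.eq.2 ((hRmem _).2 ⟨e, he, ?_⟩)).symm⟩
      show e⁻¹ * ((e⁻¹ * (c : L))⁻¹ * (c : L)) ∈ M
      rw [show e⁻¹ * ((e⁻¹ * (c : L))⁻¹ * (c : L)) = e⁻¹ * (((e⁻¹ * (c : L))⁻¹) * e) * (e⁻¹ * (c : L)) by group,
        ← Subgroup.mem_center_iff.1 (Z.inv_mem hec) e]
      simp
    have hCc : C ≤ Subgroup.center _ := by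
      rintro _ ⟨c, hc, rfl⟩
      obtain ⟨z, hz⟩ := hmC c hc
      rw [hz]
      refine Subgroup.mem_center_iff.2 fun y => ?_
      obtain ⟨y, rfl⟩ := hρs y
      rw [← map_mul, ← map_mul]
      exact congrArg ρ (Subtype.ext (Subgroup.mem_center_iff.1 z.2 y))
    have hρ1 : ∀ z : Z, ρ ⟨z, hZS z z.2⟩ = 1 ↔ z ∈ M' := fun z => by
      rw [hρ, QuotientGroup.mk'_apply, QuotientGroup.eq_one_iff, hRmem]
      refine ⟨fun ⟨e, he, hc⟩ => ?_, fun h => ⟨1, one_mem _, by simpa using (hmemM z).2 h⟩⟩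
      have heZ : e ∈ Z := by
        have := mul_mem z.2 (inv_mem (hMZ hc))
        simpa [Subgroup.mem_center_iff.1 (Z.inv_mem (hMZ hc)) (z : L)] using this
      have h1 : (⟨e, heZ⟩ : Z) ∈ M' := hDM (show (e : L) ∈ E from he)
      have h2 := mul_mem h1 ((hmemM ⟨_, hMZ hc⟩).1 hc)
      rwa [show (⟨e, heZ⟩ : Z) * ⟨e⁻¹ * (z : L), hMZ hc⟩ = z from Subtype.ext (mul_inv_cancel_left e z)] at h2
    have hC2 : Nat.card C = 2 := by
      obtain ⟨z₁, hz₁⟩ : ∃ z : Z, z ∉ M' := by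
        by_contra hc
        push Not at hc
        rw [(Subgroup.eq_top_iff' M').2 hc, Subgroup.index_top] at hidx
        omega
      have hzC : ∀ z : Z, ρ ⟨z, hZS z z.2⟩ ∈ C := fun z =>
        mem_map_of_mem ρ (show π z ∈ W by rw [show π z = 1 from (QuotientGroup.eq_one_iff _).2 z.2]; exact one_mem _)
      refine (Nat.card_eq_two_iff' (1 : C)).2 ⟨⟨_, hzC z₁⟩, fun e => hz₁ ((hρ1 z₁).1 (congrArg Subtype.val e)), ?_⟩
      rintro ⟨_, c, hc, rfl⟩ hne
      obtain ⟨z, hz⟩ := hmC c hc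
      refine Subtype.ext ?_
      show ρ c = _
      rw [hz]
      have hzM : z ∉ M' := fun h => hne (Subtype.ext (hz.trans ((hρ1 z).2 h)))
      have h1 : z₁⁻¹ * z ∈ M' :=
        (Subgroup.mul_mem_iff_of_index_two hidx).2 (iff_of_false (fun h => hz₁ (inv_mem_iff.1 h)) hzM)
      refine (inv_mul_eq_one.1 ?_).symm
      rw [← map_inv, ← map_mul, ← (hρ1 (z₁⁻¹ * z)).2 h1]
      rfl
    have hker : R ≤ (W.subgroupOf (P : Subgroup (L ⧸ Z))).comap f := fun x hx => by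
      obtain ⟨e, he, hc⟩ := (hRmem x).1 hx
      exact (hmW _).2 ⟨e, he, hMZ hc⟩
    have hC8 : C.index = 8 := by
      rw [hC, Subgroup.index_map_eq _ hρs (by rw [hρ, QuotientGroup.ker_mk']; exact hker),
        Subgroup.index_comap_of_surjective _ hfs]
      have h := (W.subgroupOf (P : Subgroup (L ⧸ Z))).card_mul_index
      rw [Nat.card_congr (Subgroup.subgroupOfEquivOfLe hW.le).toEquiv, hW8, h64] at h
      omega
    obtain ⟨n', hn'P, hn'⟩ := exists_fpf hna hW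
    obtain ⟨n, rfl⟩ := QuotientGroup.mk'_surjective Z n'
    have hnP : ∀ x, x ∈ (P₀ : Subgroup L) ↔ n * x * n⁻¹ ∈ (P₀ : Subgroup L) := fun x => by
      rw [hmP, hmP, ← hQ.mem, ← hQ.mem, map_mul, map_mul, map_inv]
      exact mem_normalizer_iff.1 hn'P (π x)
    let g : MulAut (P₀ : Subgroup L) :=
      { toFun := fun x => ⟨n * x * n⁻¹, (hnP x).1 x.2⟩
        invFun := fun x => ⟨n⁻¹ * x * n, (hnP _).2 (by simpa [mul_assoc] using x.2)⟩
        left_inv := fun x => Subtype.ext (by show n⁻¹ * (n * x * n⁻¹) * n = x; group)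
        right_inv := fun x => Subtype.ext (by show n * (n⁻¹ * x * n) * n⁻¹ = x; group)
        map_mul' := fun x y => Subtype.ext (by
          show n * ((x * y : (P₀ : Subgroup L)) : L) * n⁻¹ = n * x * n⁻¹ * (n * y * n⁻¹)
          push_cast
          group) }
    have hgR : R.map g.toMonoidHom = R := by
      refine Subgroup.eq_of_le_of_card_ge ?_ (Subgroup.card_map_of_injective (f := g.toMonoidHom) g.injective).ge
      rintro _ ⟨x, hx, rfl⟩
      obtain ⟨e, he, hc⟩ := (hRmem x).1 hx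
      refine (hRmem _).2 ⟨n * e * n⁻¹, hEconj n (fun y hy => (hnP y).1 hy) e he, ?_⟩
      show (n * e * n⁻¹)⁻¹ * (n * (x : L) * n⁻¹) ∈ M
      rw [show (n * e * n⁻¹)⁻¹ * (n * (x : L) * n⁻¹) = n * (e⁻¹ * (x : L)) * n⁻¹ by group,
        Subgroup.mem_center_iff.1 (hMZ hc) n, mul_inv_cancel_right]
      exact hc
    set ω : MulAut ((P₀ : Subgroup L) ⧸ R) := QuotientGroup.congr R R g hgR with hω
    have hω' : ∀ x, ω (ρ x) = ρ (g x) := fun x => rfl
    have hcomm := comm_of_fpf_eight hCc hC2 hC8 (fun x => by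
      obtain ⟨x, rfl⟩ := hρs x
      refine ⟨x * x, ?_, map_mul ρ x x⟩
      show π ((x * x : (P₀ : Subgroup L)) : L) ∈ W
      push_cast
      rw [map_mul]
      exact hW.mod _ ((hQ.mem x).2 ((hmP x).1 x.2))) ω (fun c hc => by
      obtain ⟨c, hc, rfl⟩ := hc
      obtain ⟨z, hz⟩ := hmC c hc
      rw [hz, hω']
      refine congrArg ρ (Subtype.ext ?_)
      show n * (z : L) * n⁻¹ = z
      rw [Subgroup.mem_center_iff.1 z.2 n, mul_inv_cancel_right]) (fun x hx => by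
      obtain ⟨x, rfl⟩ := hρs x
      rw [hω', ← map_inv, ← map_mul] at hx
      obtain ⟨c, hc, e⟩ := hx
      have hcW : π c ∈ W := hc
      have h1 := hker (QuotientGroup.eq.1 e)
      have h2 : π ((c⁻¹ * (x⁻¹ * g x) : (P₀ : Subgroup L)) : L) ∈ W := h1
      push_cast at h2
      rw [map_mul, map_inv] at h2
      have h3 := mul_mem hcW h2
      rw [mul_inv_cancel_left, show (((g x : (P₀ : Subgroup L))) : L) = n * (x : L) * n⁻¹ from rfl, map_mul,
        map_inv, map_mul, map_mul, map_inv] at h3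
      exact mem_map_of_mem ρ (hn' _ ((hQ.mem x).2 ((hmP x).1 x.2)) h3))
    -- so the centre is in the product with `M`
    have hder : commutator (P₀ : Subgroup L) ≤ R := by
      rw [← QuotientGroup.ker_mk' R, _root_.commutator_def, Subgroup.commutator_le]
      intro x _ y _
      rw [MonoidHom.mem_ker, map_commutatorElement, commutatorElement_eq_one_iff_mul_comm]
      exact hcomm _ _
    have hM'top : M' = ⊤ := (Subgroup.eq_top_iff' M').2 fun z => (hρ1 z).1 ((QuotientGroup.eq_one_iff _).2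
      (hder (CI.mem_commutator_sylow hperf z.2 P₀ (hZS z z.2))))
    rw [hM'top, Subgroup.index_top] at hidx
    omega

/-- **The moved component.** -/
theorem abComp {L : Subgroup Y} (hL : Cfsg.IsComponent L) (hne : ¬ A ≤ centralizer (L : Set Y)) : AbComp A L S := by
  classical
  obtain ⟨P, W, hQ⟩ := hY.exists_quot hb hAS hL hne
  haveI : IsSimpleGroup (L ⧸ Subgroup.center L) := hL.2.2
  have hna := CI.quotient_center_nonab hL.2
  have hW := hQ.type
  set π := QuotientGroup.mk' (Subgroup.center L) with hπ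
  have hcen := hY.center_le hb hAS hL hQ
  have hWA : ∀ x : L, π x ∈ W → (x : Y) ∈ A ∧ (x : Y) * x = 1 := fun x hx => by
    obtain ⟨e, he, he2, hc⟩ := (hQ.memW x).1 hx
    obtain ⟨hzA, hz2⟩ := hcen _ hc
    rw [show (x : Y) = e * (e⁻¹ * x) by group]
    exact (invPart A hY.ab).mul_mem ⟨he.1, he2⟩ ⟨hzA, hz2⟩
  have hAW : ∀ x : L, (x : Y) ∈ A → π x ∈ W := hQ.ofA
  refine ⟨hQ.gType, fun z hz => (hcen z hz).1, fun x hx => (hWA ⟨x, hx.2⟩ (hAW ⟨x, hx.2⟩ hx.1)).2,
    fun x hx => (hWA (⟨x, hx.2⟩ * ⟨x, hx.2⟩) (by rw [map_mul]; exact hW.mod _ ((hQ.mem _).2 hx.1))).1,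
    fun x hx hx2 => (hWA ⟨x, hx.2⟩ (hW.invol _ ((hQ.mem _).2 hx.1) (by
      rw [← map_mul]; exact (QuotientGroup.eq_one_iff _).2 ((mem_center_iff_cenL _).2 hx2)))).1, ?_, ?_⟩
  · obtain ⟨n', hn'P, hn'⟩ := exists_fpf hna hW
    obtain ⟨n, rfl⟩ := QuotientGroup.mk'_surjective _ n'
    refine ⟨n, n.2, fun x hx => ?_, fun x hx hxA => ?_⟩
    · have h := (mem_normalizer_iff.1 hn'P _).1 ((hQ.mem ⟨x, hx.2⟩).2 hx.1)
      rw [← map_inv, ← map_mul, ← map_mul, hQ.mem] at h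
      exact h
    · refine (hWA ⟨x, hx.2⟩ (hn' _ ((hQ.mem _).2 hx.1) ?_)).1
      rw [← map_inv, ← map_inv, ← map_mul, ← map_mul, ← map_mul]
      exact hAW _ hxA
  intro u huS huL hfix hmod
  haveI : Fact (Nat.Prime 2) := ⟨Nat.prime_two⟩
  let cu : MulAut L :=
    { toFun := fun l => ⟨u * l * u⁻¹, (mem_normalizer_iff.1 huL _).1 l.2⟩
      invFun := fun l => ⟨u⁻¹ * l * u, by
        have := (mem_normalizer_iff.1 (inv_mem huL) _).1 l.2
        rwa [inv_inv] at this⟩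
      left_inv := fun l => Subtype.ext (by show u⁻¹ * (u * l * u⁻¹) * u = l; group)
      right_inv := fun l => Subtype.ext (by show u * (u⁻¹ * l * u) * u⁻¹ = l; group)
      map_mul' := fun l m => Subtype.ext (by
        show u * ((l * m : L) : Y) * u⁻¹ = u * l * u⁻¹ * (u * m * u⁻¹)
        push_cast
        group) }
  set α : MulAut (L ⧸ Subgroup.center L) := QuotientGroup.congr _ _ cu
    (Subgroup.characteristic_iff_map_eq.1 inferInstance cu) with hα
  have hα' : ∀ l : L, α (π l) = π (cu l) := fun _ => rfl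
  have hcu : ∀ l : L, ((cu l : L) : Y) = u * l * u⁻¹ := fun _ => rfl
  have hαi : ∀ (i : ℕ) (l : L), ∃ l' : L, (l' : Y) = u ^ i * l * (u ^ i)⁻¹ ∧ (α ^ i) (π l) = π l' := by
    intro i l
    induction i with
    | zero => exact ⟨l, by simp, rfl⟩
    | succ i ih =>
      obtain ⟨l', hl', e⟩ := ih
      exact ⟨cu l', by rw [hcu, hl', pow_succ']; group, by rw [pow_succ', MulAut.mul_apply, e, hα']⟩
  obtain ⟨j, hj⟩ := S.2 ⟨u, huS⟩
  have hj' : u ^ 2 ^ j = 1 := congrArg Subtype.val hj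
  obtain ⟨i, -, hi⟩ := (Nat.dvd_prime_pow Nat.prime_two).1 (show orderOf α ∣ 2 ^ j from orderOf_dvd_of_pow_eq_one (by
    refine MulEquiv.ext fun y => ?_
    obtain ⟨l, rfl⟩ := QuotientGroup.mk'_surjective _ y
    obtain ⟨l', hl', e⟩ := hαi (2 ^ j) l
    rw [e, MulAut.one_apply, show l' = l from Subtype.ext (by rw [hl', hj']; group)]))
  obtain ⟨g, hg⟩ := hW.inner α ⟨i, hi⟩
    (fun y hy => by
      obtain ⟨l, rfl⟩ := QuotientGroup.mk'_surjective _ y
      rw [hα', hQ.mem, hcu]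
      exact mul_mem (mul_mem huS ((hQ.mem l).1 hy)) (inv_mem huS))
    (fun y hy => by
      obtain ⟨l, rfl⟩ := QuotientGroup.mk'_surjective _ y
      rw [hα']
      refine congrArg π (Subtype.ext ?_)
      rw [hcu, hfix _ ⟨(hWA l hy).1, l.2⟩, mul_inv_cancel_right])
    (fun y hy => by
      obtain ⟨l, rfl⟩ := QuotientGroup.mk'_surjective _ y
      rw [hα', ← map_inv, ← map_mul]
      exact hAW _ (hmod l ⟨(hQ.mem l).1 hy, l.2⟩))
  -- the inner element is a two-element of the Sylow subgroup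
  have hcenter : Subgroup.center (L ⧸ Subgroup.center L) = ⊥ :=
    (inferInstance : (Subgroup.center (L ⧸ Subgroup.center L)).Normal).eq_bot_or_eq_top.resolve_right fun e => hna
      ⟨⟨fun a b => Subgroup.mem_center_iff.1 (e.symm.le (mem_top b) : b ∈ Subgroup.center _) a⟩⟩
  have hgpow : ∀ (m : ℕ) (y : L ⧸ Subgroup.center L), (α ^ m) y = g ^ m * y * (g ^ m)⁻¹ := by
    intro m y
    induction m with
    | zero => simp
    | succ m ih => rw [pow_succ', MulAut.mul_apply, ih, hg, pow_succ']; group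
  have hg2 : g ^ 2 ^ i = 1 := by
    rw [← mem_bot, ← hcenter, Subgroup.mem_center_iff]
    intro y
    have h := hgpow (2 ^ i) y
    have hα1 : α ^ 2 ^ i = 1 := by rw [← hi, pow_orderOf_eq_one]
    rw [hα1, MulAut.one_apply] at h
    exact eq_mul_inv_iff_mul_eq.1 h
  have hgN : g ∈ normalizer ((P : Subgroup (L ⧸ Subgroup.center L)) : Set _) := mem_normalizer_fintype fun y hy => by
    obtain ⟨l, rfl⟩ := QuotientGroup.mk'_surjective _ y
    rw [← hg, hα']
    exact (hQ.mem _).2 (by rw [hcu]; exact mul_mem (mul_mem huS ((hQ.mem l).1 hy)) (inv_mem huS))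
  have hgP : g ∈ (P : Subgroup (L ⧸ Subgroup.center L)) := by
    have hp : IsPGroup 2 (zpowers g) := by
      obtain ⟨t, -, ht⟩ := (Nat.dvd_prime_pow Nat.prime_two).1 (orderOf_dvd_of_pow_eq_one hg2)
      exact IsPGroup.of_card (n := t) (by rw [Nat.card_zpowers, ht])
    have hsup := IsPGroup.to_sup_of_normal_left' P.isPGroup' hp (zpowers_le.2 hgN)
    rw [← P.is_maximal' hsup le_sup_left]
    exact le_sup_right (a := (P : Subgroup (L ⧸ Subgroup.center L))) (mem_zpowers _)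
  obtain ⟨e, rfl⟩ := QuotientGroup.mk'_surjective _ g
  refine ⟨e, ⟨(hQ.mem e).1 hgP, e.2⟩, cent_of_mod_center hL.2 fun l hl => ?_⟩
  have h1 := hg (π ⟨l, hl⟩)
  rw [hα', ← map_inv, ← map_mul, ← map_mul] at h1
  have h2 := (mem_center_iff_cenL _).1 (QuotientGroup.eq.1 h1.symm)
  push_cast at h2
  rw [hcu] at h2
  set z := ((e : Y) * l * (e : Y)⁻¹)⁻¹ * (u * l * u⁻¹) with hz
  have hcz := mem_centralizer_iff.1 h2.2
  have h3 : (e : Y)⁻¹ * u * l * ((e : Y)⁻¹ * u)⁻¹ * l⁻¹ = z := by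
    calc (e : Y)⁻¹ * u * l * ((e : Y)⁻¹ * u)⁻¹ * l⁻¹
        = (e : Y)⁻¹ * ((e : Y) * l * (e : Y)⁻¹ * z) * e * l⁻¹ := by rw [hz]; group
      _ = l * ((e : Y)⁻¹ * z) * e * l⁻¹ := by group
      _ = l * (z * (e : Y)⁻¹) * e * l⁻¹ := by rw [hcz _ (inv_mem e.2)]
      _ = l * z * l⁻¹ := by group
      _ = z := by rw [hcz _ hl, mul_inv_cancel_right]
  rw [h3]
  exact h2

end AbHyp

end Cfsg.Agent.Goldschmidt
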