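import Cfsg.Agent.Lib.Goldschmidt.Local.TypeFacts

/-!
# Invariant subgroups of a Sylow 2-subgroup of a rank-one group

A subgroup above the involutions invariant under the two-point stabiliser is the group of the involutions or everything.
-/

set_option autoImplicit false
set_option linter.style.haveILetI false
set_option linter.unusedSectionVars false

namespace Cfsg.Agent.Lie.R1C

open Cfsg MulAction
open Cfsg.Agent.Lie.R1 (D)

variable {G Ω : Type*} [Group G] [MulAction G Ω] [Finite G] [IsSimpleGroup G] [FaithfulSMul G Ω] {a : Ω} {t : G}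
  {Q : Subgroup G}

namespace Ctx

variable (hc : Ctx G Ω a t Q)
include hc

/-- An invariant subgroup with an element outside the involutions is everything. -/
theorem invariant_eq {U : Subgroup G} (hUQ : U ≤ Q) (hzU : zg G a ≤ U)
    (hk : ∀ k ∈ kg G a t, ∀ u ∈ U, k * u * k⁻¹ ∈ U) (hw : ∀ w ∈ wg G a t, ∀ u ∈ U, w * u * w⁻¹ ∈ U)
    {x : G} (hx : x ∈ U) (hxz : x ∉ zg G a) : U = Q := by
  classical
  have hS := hc.hS
  obtain ⟨i, hi, hcard⟩ := hc.card_Q_of_simple
  rcases hi with rfl | rfl | rfl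
  · rw [pow_one] at hcard
    exact absurd ((Subgroup.eq_of_le_of_card_ge hc.zg_le_Q hcard.le).symm.le (hUQ hx)) hxz
  · refine le_antisymm hUQ fun y hy => ?_
    by_cases hyz : y ∈ zg G a
    · exact hzU hyz
    obtain ⟨k, hkk, e⟩ := hc.kg_trans_mod hcard (hUQ hx) hxz hy hyz
    have h1 := mul_mem (hk k hkk x hx) (inv_mem (hzU e))
    rwa [show k * x * k⁻¹ * (y⁻¹ * (k * x * k⁻¹))⁻¹ = y by group] at h1
  obtain ⟨hQ2, hsq⟩ := hc.sq_zg_of_simple
  haveI : Fact (Nat.Prime 2) := ⟨Nat.prime_two⟩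
  obtain ⟨⟨w, hwg⟩, hw1⟩ := (Subgroup.ne_bot_iff_exists_ne_one).1 (hc.wg_ne_bot_of_cube hcard)
  have hw1' : w ≠ 1 := fun h => hw1 (Subtype.ext h)
  have hwodd : Odd (orderOf w) :=
    hS.odd_card.of_dvd_nat (Subgroup.orderOf_dvd_natCard _ (hc.vg_le (hc.wg_le_vg hwg)))
  have hxx : x * x ≠ 1 := fun h => hxz (hc.mem_zg_of_sq (hS.le (hUQ hx)) h)
  have hzsq : ∀ {y z : G}, y ∈ Q → z ∈ zg G a → y * z * (y * z) = y * y := fun {y z} hy hz => by
    rw [show y * z * (y * z) = y * (z * y) * z by group, hc.zg_central hz hy,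
      show y * (y * z) * z = y * y * (z * z) by group, hc.zg_sq hz, mul_one]
  -- a torus element fixing a class modulo the involutions is trivial
  have hfix : ∀ k ∈ kg G a t, k * (x * x) * k⁻¹ = x * x → k = 1 := fun k hkk h => by
    by_contra hk1
    exact hxx (hc.kg_fpf hkk hk1 (hc.zg_le_Q (hsq x (hUQ hx))) (mul_inv_eq_iff_eq_mul.1 h))
  set y := w * x * w⁻¹ with hy
  have hyQ : y ∈ Q := R1.conj_Q hS (hc.vg_fix (hc.wg_le_vg hwg)) (hUQ hx)
  have hyy : y * y = x * x := by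
    rw [hy, show w * x * w⁻¹ * (w * x * w⁻¹) = w * (x * x) * w⁻¹ by group, hc.wg_comm_zg hwg (hsq x (hUQ hx)),
      mul_inv_cancel_right]
  let g : Bool × kg G a t × zg G a → U := fun p =>
    ⟨(p.2.1 : G) * (bif p.1 then y else x) * (p.2.1 : G)⁻¹ * p.2.2, mul_mem (hk _ p.2.1.2 _ (by
      cases p.1
      · exact hx
      · exact hw w hwg x hx)) (hzU p.2.2.2)⟩
  have hb : ∀ b : Bool, (bif b then y else x) ∈ Q ∧ (bif b then y else x) * (bif b then y else x) = x * x := by
    rintro (_ | _)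
    · exact ⟨hUQ hx, rfl⟩
    · exact ⟨hyQ, hyy⟩
  have hg : Function.Injective g := by
    rintro ⟨b, k, z⟩ ⟨b', k', z'⟩ e
    have e' : (k : G) * (bif b then y else x) * (k : G)⁻¹ * z = k' * (bif b' then y else x) * (k' : G)⁻¹ * z' :=
      congrArg Subtype.val e
    have hsq' : ∀ (b : Bool) (k : kg G a t) (z : zg G a),
        (k : G) * (bif b then y else x) * (k : G)⁻¹ * z * ((k : G) * (bif b then y else x) * (k : G)⁻¹ * z) =
          k * (x * x) * (k : G)⁻¹ := fun b k z => by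
      rw [hzsq (R1.conj_Q hS (hc.kg_fix k.2) (hb b).1) z.2, ← (hb b).2]; group
    have h2 : (k : G) * (x * x) * (k : G)⁻¹ = k' * (x * x) * (k' : G)⁻¹ := by rw [← hsq' b k z, e', hsq']
    obtain rfl : k = k' := by
      refine (inv_mul_eq_one.1 (Subtype.ext (hfix _ (k'⁻¹ * k).2 ?_) : k'⁻¹ * k = 1)).symm
      push_cast
      calc (k' : G)⁻¹ * k * (x * x) * ((k' : G)⁻¹ * k)⁻¹ = (k' : G)⁻¹ * ((k : G) * (x * x) * (k : G)⁻¹) * k' := by
            group
        _ = x * x := by rw [h2]; group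
    -- the classes of `x` and `y` differ
    have hne : ∀ z ∈ zg G a, y ≠ x * z := by
      intro z hz h
      have h3 := hc.fix_of_fix_mod hwodd hz (hc.wg_comm_zg hwg hz) h
      exact hxz (hc.wg_fix_mem_zg hcard hwg hw1' (hUQ hx) (mul_inv_eq_iff_eq_mul.1 h3))
    have h4 : (bif b then y else x) = (bif b' then y else x) * ((k : G)⁻¹ * ((z' : G) * (z : G)⁻¹) * k) := by
      calc (bif b then y else x) = (k : G)⁻¹ * ((k : G) * (bif b then y else x) * (k : G)⁻¹ * z) * (z : G)⁻¹ * k := by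
            group
        _ = _ := by rw [e']; group
    have hz4 : (k : G)⁻¹ * ((z' : G) * (z : G)⁻¹) * k ∈ zg G a := by
      have := hc.conj_zg (hc.kg_fix (inv_mem k.2)) (mul_mem z'.2 (inv_mem z.2))
      simpa using this
    obtain rfl : b = b' := by
      cases b <;> cases b'
      · rfl
      · exact (hne _ (inv_mem hz4) (eq_mul_inv_iff_mul_eq.2 h4.symm)).elim
      · exact (hne _ hz4 h4).elim
      · rfl
    obtain rfl : z = z' := Subtype.ext (mul_left_cancel e')
    rfl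
  obtain ⟨f, hf, hzf⟩ := hc.exists_f
  have hbig : 2 ^ f * 2 ^ f < Nat.card U := by
    have h1 := Nat.card_le_card_of_injective g hg
    have h2 := hc.card_kg
    rw [Nat.card_prod, Nat.card_prod, Nat.card_eq_fintype_card, Fintype.card_bool, hzf] at h1
    rw [hzf] at h2
    have h4 : 2 ^ 2 ≤ 2 ^ f := Nat.pow_le_pow_right two_pos hf
    obtain ⟨c, hc'⟩ : ∃ c, Nat.card (kg G a t) = c := ⟨_, rfl⟩
    rw [hc'] at h1 h2
    nlinarith
  -- the torus acts without fixed points
  have hdvd : Nat.card (kg G a t) ∣ Nat.card U - 1 := by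
    letI : MulAction (kg G a t) {u : U // u ≠ 1} :=
      { smul := fun k u => ⟨⟨k * u.1 * (k : G)⁻¹, hk k k.2 _ u.1.2⟩, fun h => u.2 (Subtype.ext (by
          have := congrArg Subtype.val h
          simpa using this))⟩
        one_smul := fun u => Subtype.ext (Subtype.ext (by
          show ((1 : kg G a t) : G) * u.1 * ((1 : kg G a t) : G)⁻¹ = u.1
          simp))
        mul_smul := fun k k' u => Subtype.ext (Subtype.ext (by
          show ((k * k' : kg G a t) : G) * u.1 * ((k * k' : kg G a t) : G)⁻¹ =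
            (k : G) * ((k' : G) * u.1 * (k' : G)⁻¹) * (k : G)⁻¹
          push_cast
          group)) }
    have hst : ∀ u : {u : U // u ≠ 1}, MulAction.stabilizer (kg G a t) u = ⊥ := by
      intro u
      refine (Subgroup.eq_bot_iff_forall _).2 fun k hkst => ?_
      by_contra hk1
      have e : (k : G) * u.1 * (k : G)⁻¹ = u.1 := congrArg (fun z : {u : U // u ≠ 1} => ((z.1 : U) : G)) hkst
      exact u.2 (Subtype.ext (hc.kg_fpf k.2 (fun h => hk1 (Subtype.ext h)) (hUQ u.1.2)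
        (mul_inv_eq_iff_eq_mul.1 e)))
    haveI := Fintype.ofFinite U
    have hcU : Nat.card {u : U // u ≠ 1} = Nat.card U - 1 := by
      rw [Nat.card_eq_fintype_card, Fintype.card_subtype_compl, Fintype.card_subtype_eq, Nat.card_eq_fintype_card]
    rw [← hcU, Nat.card_congr (MulAction.selfEquivOrbitsQuotientProd hst), Nat.card_prod]
    exact Dvd.intro_left _ rfl
  obtain ⟨j, hj⟩ := IsPGroup.iff_card.1 (hQ2.to_le hUQ)
  have hkq : Nat.card (kg G a t) = 2 ^ f - 1 := by have := hc.card_kg; rw [hzf] at this; omega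
  rw [hj, hkq] at hdvd
  rw [hj] at hbig
  have hfj : f ∣ j := by
    have := (Nat.pow_sub_one_gcd_pow_sub_one 2 f j).symm.trans (Nat.gcd_eq_left hdvd)
    rw [← Nat.gcd_eq_left_iff_dvd]
    refine Nat.pow_right_injective le_rfl ?_
    have h1 := Nat.one_le_two_pow (n := f)
    have h3 := Nat.one_le_two_pow (n := f.gcd j)
    show 2 ^ f.gcd j = 2 ^ f
    omega
  rw [← pow_add, Nat.pow_lt_pow_iff_right one_lt_two] at hbig
  obtain ⟨m, rfl⟩ := hfj
  have hm : 3 ≤ m := by
    by_contra h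
    have h5 : f * m ≤ f * 2 := Nat.mul_le_mul_left f (by omega)
    omega
  refine Subgroup.eq_of_le_of_card_ge hUQ ?_
  rw [hcard, hzf, hj, ← pow_mul]
  exact Nat.pow_le_pow_right two_pos (Nat.mul_le_mul_left f hm)

end Ctx

end Cfsg.Agent.Lie.R1C

namespace Cfsg.Agent.Goldschmidt

open Subgroup Cfsg.Agent
open Cfsg.Agent.Solv.AbelianTwo (Ab2)

universe u

variable {K : Type u} [Group K] [Finite K]

/-- An invariant subgroup above the involutions is the group of the involutions or everything. -/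
theorem TypeData.dichotomy [IsSimpleGroup K] (hna : ¬ IsMulCommutative K) (hT : GType K) {P : Sylow 2 K}
    {W : Subgroup K} (hW : TypeData P W) {U : Subgroup K} (hUP : U ≤ (P : Subgroup K)) (hWU : W ≤ U)
    (hinv : ∀ n ∈ normalizer ((P : Subgroup K) : Set K), ∀ u ∈ U, n * u * n⁻¹ ∈ U) :
    U ≤ W ∨ (P : Subgroup K) ≤ U := by
  classical
  haveI : Fact (Nat.Prime 2) := ⟨Nat.prime_two⟩
  rcases hT with hab | ⟨H, hH⟩
  · exact Or.inl fun x hx => hW.invol x (hUP hx) (CI.sq_of_ab2 hna hab P x (hUP hx))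
  by_contra hcon
  obtain ⟨hUW, hPU⟩ := not_or.1 hcon
  obtain ⟨x, hxU, hxW⟩ := SetLike.not_le_iff_exists.1 hUW
  have hna' : ∃ a b : K, a * b ≠ b * a := by
    by_contra hc
    push Not at hc
    exact hna ⟨⟨hc⟩⟩
  have hN : H.normalCore = ⊥ := (Subgroup.normalCore_normal H).eq_bot_or_eq_top.resolve_right
    fun h => hH.1 (top_le_iff.1 (h ▸ Subgroup.normalCore_le H))
  haveI : FaithfulSMul K (K ⧸ H) := ⟨fun {g g'} e => by
    have h1 : g'⁻¹ * g ∈ H.normalCore := by
      rw [H.normalCore_eq_ker, MonoidHom.mem_ker]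
      refine Equiv.ext fun x => ?_
      show (g'⁻¹ * g) • x = x
      rw [mul_smul, e, inv_smul_smul]
    rw [hN, mem_bot] at h1
    exact (inv_mul_eq_one.1 h1).symm⟩
  obtain ⟨t, Q, hc, -, -, -, -, S, hS⟩ := Bender.exists_Q SEB.sol_all hna' (isCoatom_of_se hna hH) hH
  obtain ⟨g, rfl⟩ := MulAction.exists_smul_eq K S P
  have hP : ∀ x, x ∈ ((g • S : Sylow 2 K) : Subgroup K) ↔ g⁻¹ * x * g ∈ Q := fun x => by
    rw [Sylow.coe_subgroup_smul, Subgroup.mem_pointwise_smul_iff_inv_smul_mem, hS]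
    simp [MulAut.smul_def]
  set U₀ := U.comap (MulAut.conj g).toMonoidHom with hU₀
  have hmU : ∀ u, u ∈ U₀ ↔ g * u * g⁻¹ ∈ U := fun u => by simp [hU₀]
  have hstab : ∀ d : K, d • (QuotientGroup.mk 1 : K ⧸ H) = QuotientGroup.mk 1 → ∀ u ∈ U₀, d * u * d⁻¹ ∈ U₀ := by
    intro d hd u hu
    rw [hmU] at hu ⊢
    have h1 := hinv (g * d * g⁻¹) (mem_normalizer_fintype fun y hy => by
      rw [SetLike.mem_coe, hP] at hy ⊢
      rw [show g⁻¹ * (g * d * g⁻¹ * y * (g * d * g⁻¹)⁻¹) * g = d * (g⁻¹ * y * g) * d⁻¹ by group]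
      exact Lie.R1.conj_Q hc.hS hd hy) _ hu
    rwa [show g * d * g⁻¹ * (g * u * g⁻¹) * (g * d * g⁻¹)⁻¹ = g * (d * u * d⁻¹) * g⁻¹ by group] at h1
  have key := hc.invariant_eq (U := U₀)
    (fun u hu => by
      have := (hP _).1 (hUP ((hmU u).1 hu))
      rwa [show g⁻¹ * (g * u * g⁻¹) * g = u by group] at this)
    (fun z hz => (hmU z).2 (hWU (hW.invol _ ((hP _).2 (by
      rw [show g⁻¹ * (g * z * g⁻¹) * g = z by group]; exact hc.zg_le_Q hz)) (by
      rw [show g * z * g⁻¹ * (g * z * g⁻¹) = g * (z * z) * g⁻¹ by group, hc.zg_sq hz]; group))))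
    (fun k hk => hstab k (hc.kg_fix hk)) (fun w hw => hstab w (hc.vg_fix (hc.wg_le_vg hw)))
    (x := g⁻¹ * x * g) ((hmU _).2 (by rwa [show g * (g⁻¹ * x * g) * g⁻¹ = x by group]))
    fun hz => hxW (hW.invol x (hUP hxU) (by
      have := hc.zg_sq hz
      rw [show g⁻¹ * x * g * (g⁻¹ * x * g) = g⁻¹ * (x * x) * g by group] at this
      calc x * x = g * (g⁻¹ * (x * x) * g) * g⁻¹ := by group
        _ = 1 := by rw [this]; group))
  refine hPU fun y hy => ?_
  have h1 := (hmU _).1 (key.symm.le ((hP y).1 hy))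
  rwa [show g * (g⁻¹ * y * g) * g⁻¹ = y by group] at h1

end Cfsg.Agent.Goldschmidt
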