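import Cfsg.Agent.Lib.Goldschmidt.Closed.Basic
import Cfsg.Agent.Lib.Goldschmidt.Local.Coord

/-!
# An abelian strongly closed subgroup in a component, modulo the centre

Its image is the group of the involutions of a Sylow 2-subgroup, and all of them lift to involutions of the subgroup.
-/

set_option autoImplicit false
set_option linter.style.haveILetI false
set_option linter.unusedSectionVars false

namespace Cfsg.Agent.Goldschmidt

open Subgroup Cfsg.Agent Cfsg.Agent.Fusion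
open Cfsg.Agent.Solv.AbelianTwo (Ab2)
open scoped commutatorElement

universe u

variable {Y : Type u} [Group Y] [Finite Y]

/-- The simple quotient of a component, its Sylow subgroup and the involutions of that. -/
structure QuotData (A L : Subgroup Y) (S : Sylow 2 Y) (P : Sylow 2 (L ⧸ Subgroup.center L))
    (W : Subgroup (L ⧸ Subgroup.center L)) : Prop where
  gType : GType (L ⧸ Subgroup.center L)
  type : TypeData P W
  mem : ∀ x : L, QuotientGroup.mk' (Subgroup.center L) x ∈ (P : Subgroup (L ⧸ Subgroup.center L)) ↔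
    (x : Y) ∈ (S : Subgroup Y)
  memW : ∀ x : L, QuotientGroup.mk' (Subgroup.center L) x ∈ W ↔
    ∃ e ∈ A ⊓ L, e * e = 1 ∧ e⁻¹ * (x : Y) ∈ cenL L
  ofA : ∀ x : L, (x : Y) ∈ A → QuotientGroup.mk' (Subgroup.center L) x ∈ W

omit [Finite Y] in
theorem mem_center_iff_cenL {L : Subgroup Y} (x : L) : x ∈ Subgroup.center L ↔ (x : Y) ∈ cenL L := by
  rw [Subgroup.mem_center_iff]
  exact ⟨fun h => ⟨x.2, mem_centralizer_iff.2 fun g hg => congrArg Subtype.val (h ⟨g, hg⟩)⟩,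
    fun h g => Subtype.ext (mem_centralizer_iff.1 h.2 g g.2)⟩

/-- A mover has no fixed point modulo the involutions. -/
theorem mover_fpf {K : Type u} [Group K] [Finite K] {P : Sylow 2 K} {W : Subgroup K} (hW : TypeData P W) {w : K}
    (hwP : w ∈ normalizer ((P : Subgroup K) : Set K)) (hwW : ∀ z ∈ W, w * z = z * w)
    (hwx : ∀ x ∈ (P : Subgroup K), ∃ y ∈ (P : Subgroup K), x⁻¹ * (w * y * w⁻¹ * y⁻¹) ∈ W) :
    ∀ x ∈ (P : Subgroup K), x⁻¹ * (w * x * w⁻¹) ∈ W → x ∈ W := by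
  classical
  haveI : (W.subgroupOf (P : Subgroup K)).Normal := ⟨fun v hv y => by
    rw [mem_subgroupOf] at hv ⊢
    push_cast
    rwa [← hW.central _ hv _ y.2, mul_inv_cancel_right]⟩
  let Q := (P : Subgroup K) ⧸ W.subgroupOf (P : Subgroup K)
  have hcj : ∀ y : (P : Subgroup K), w * y * w⁻¹ * (y : K)⁻¹ ∈ (P : Subgroup K) := fun y =>
    mul_mem ((mem_normalizer_iff.1 hwP y).1 y.2) (inv_mem y.2)
  let f : Q → Q := Quotient.lift (fun y => (QuotientGroup.mk ⟨_, hcj y⟩ : Q)) fun y y' h => by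
    have hv : (y : K)⁻¹ * y' ∈ W := mem_subgroupOf.1 (QuotientGroup.leftRel_apply.1 h)
    refine congrArg QuotientGroup.mk (Subtype.ext ?_)
    show w * y * w⁻¹ * (y : K)⁻¹ = w * y' * w⁻¹ * (y' : K)⁻¹
    have hc := hW.central _ hv _ (inv_mem y.2)
    calc w * y * w⁻¹ * (y : K)⁻¹ = w * y * ((y : K)⁻¹ * y') * w⁻¹ * (((y : K)⁻¹ * y')⁻¹ * (y : K)⁻¹) := by
          rw [show w * y * ((y : K)⁻¹ * y') * w⁻¹ = w * y * (((y : K)⁻¹ * y') * w⁻¹) by group,
            show ((y : K)⁻¹ * y') * w⁻¹ = w⁻¹ * ((y : K)⁻¹ * y') by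
              rw [eq_inv_mul_iff_mul_eq, ← mul_assoc, hwW _ hv, mul_inv_cancel_right]]
          group
      _ = _ := by group
  have hf : Function.Surjective f := fun q => by
    obtain ⟨x, rfl⟩ := QuotientGroup.mk'_surjective _ q
    obtain ⟨y, hy, e⟩ := hwx _ x.2
    refine ⟨QuotientGroup.mk ⟨y, hy⟩, (QuotientGroup.eq.2 ?_).symm⟩
    exact mem_subgroupOf.2 e
  intro x hx hxW
  have hinj := (Finite.injective_iff_surjective.2 hf) (a₁ := QuotientGroup.mk ⟨x, hx⟩) (a₂ := QuotientGroup.mk 1) (by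
    refine QuotientGroup.eq.2 (mem_subgroupOf.2 ?_)
    show (w * x * w⁻¹ * x⁻¹)⁻¹ * (w * ((1 : (P : Subgroup K)) : K) * w⁻¹ * ((1 : (P : Subgroup K)) : K)⁻¹) ∈ W
    have hc := hW.central _ hxW _ hx
    simp only [OneMemClass.coe_one, mul_one, inv_one, mul_inv_cancel]
    rw [inv_mem_iff, show w * x * w⁻¹ * x⁻¹ = x * (x⁻¹ * (w * x * w⁻¹)) * x⁻¹ by group, ← hc,
      mul_inv_cancel_right]
    exact hxW)
  have := mem_subgroupOf.1 (QuotientGroup.eq.1 hinj)
  simpa using this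

/-- An element of the normaliser without fixed points modulo the involutions. -/
theorem exists_fpf {K : Type u} [Group K] [Finite K] [IsSimpleGroup K] (hna : ¬ IsMulCommutative K) {P : Sylow 2 K}
    {W : Subgroup K} (hW : TypeData P W) :
    ∃ n : K, n ∈ normalizer ((P : Subgroup K) : Set K) ∧
      ∀ x ∈ (P : Subgroup K), x⁻¹ * (n * x * n⁻¹) ∈ W → x ∈ W := by
  classical
  rcases hW.alt with ⟨w, -, hwP, hwW, hwx⟩ | ⟨⟨h, hhW, hhP, hht, -⟩, -, -⟩
  · exact ⟨w, hwP, mover_fpf hW hwP hwW hwx⟩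
  · refine ⟨h, hhP, fun x hx hxW => ?_⟩
    by_contra hxn
    have hpow : ∀ i : ℕ, x⁻¹ * (h ^ i * x * (h ^ i)⁻¹) ∈ W := by
      intro i
      induction i with
      | zero => simp
      | succ i ih =>
        have h1 := (mem_normalizer_iff.1 hhW _).1 ih
        rw [show x⁻¹ * (h ^ (i + 1) * x * (h ^ (i + 1))⁻¹) =
          x⁻¹ * (h * x * h⁻¹) * (h * (x⁻¹ * (h ^ i * x * (h ^ i)⁻¹)) * h⁻¹) by rw [pow_succ']; group]
        exact mul_mem hxW h1
    have hall : ∀ y ∈ (P : Subgroup K), y ∈ W ∨ ∃ v ∈ W, y = x * v := fun y hy => by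
      by_cases hyW : y ∈ W
      · exact Or.inl hyW
      obtain ⟨i, hi⟩ := hht x hx hxn y hy hyW
      exact Or.inr ⟨x⁻¹ * y, by
        rw [show x⁻¹ * y = (x⁻¹ * (h ^ i * x * (h ^ i)⁻¹)) * (y⁻¹ * (h ^ i * x * (h ^ i)⁻¹))⁻¹ by group]
        exact mul_mem (hpow i) (inv_mem hi), by group⟩
    have hxc : ∀ y ∈ (P : Subgroup K), x * y = y * x := fun y hy => by
      rcases hall y hy with hy' | ⟨v, hv, rfl⟩
      · exact (hW.central y hy' x hx).symm
      · rw [mul_assoc x v x, hW.central v hv x hx]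
    have hPab : IsMulCommutative (P : Subgroup K) := ⟨⟨fun a b => Subtype.ext (by
      show (a : K) * b = b * a
      rcases hall a a.2 with ha | ⟨v, hv, ha⟩
      · exact hW.central _ ha _ b.2
      · rw [ha, mul_assoc, hW.central v hv _ b.2, ← mul_assoc, hxc _ b.2, mul_assoc])⟩⟩
    have hab : Ab2 K := fun Q => ⟨⟨fun a b => (Sylow.equiv Q P).injective (by
      rw [map_mul, map_mul]; exact hPab.is_comm.comm _ _)⟩⟩
    exact hxn (hW.invol x hx (CI.sq_of_ab2 hna hab P x hx))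

namespace AbHyp

variable {A : Subgroup Y} (hY : AbHyp Y A) (hb : Below.{u} (Nat.card Y + 1)) {S : Sylow 2 Y}
  (hAS : A ≤ (S : Subgroup Y))
include hY hb hAS

/-- **The quotient.** -/
theorem exists_quot {L : Subgroup Y} (hL : Cfsg.IsComponent L) (hne : ¬ A ≤ centralizer (L : Set Y)) :
    ∃ P W, QuotData A L S P W := by
  classical
  haveI : Fact (Nat.Prime 2) := ⟨Nat.prime_two⟩
  obtain ⟨e₀, he₀A, he₀L, he₀⟩ : ∃ e ∈ A, e ∈ L ∧ e ∉ centralizer (L : Set Y) := by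
    by_contra hc
    push Not at hc
    exact hne (hY.centralises hAS hL fun e he heL g hg => mem_centralizer_iff.1 (hc e he heL) g hg)
  set Z := Subgroup.center L with hZ
  haveI : IsSimpleGroup (L ⧸ Z) := hL.2.2
  have hna := CI.quotient_center_nonab hL.2
  set π := QuotientGroup.mk' Z with hπ
  have hπs : Function.Surjective π := QuotientGroup.mk'_surjective Z
  obtain ⟨P₀, hP₀e⟩ := (CI.comp_sylIn hL S).exists_sylow_subgroupOf
  have hmP : ∀ x : L, x ∈ (P₀ : Subgroup L) ↔ (x : Y) ∈ (S : Subgroup Y) := fun x => by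
    rw [hP₀e, mem_subgroupOf]; exact ⟨fun h => h.1, fun h => ⟨h, x.2⟩⟩
  have hZS : ∀ z ∈ Z, (z : Y) ∈ (S : Subgroup Y) := fun z hz =>
    CI.fitting_le_sylow hY.core S (Solv.center_component_le_fitting hL ⟨z, hz, rfl⟩)
  set P := Sylow.mapSurjective hπs P₀ with hP
  have hPm : (P : Subgroup (L ⧸ Z)) = (P₀ : Subgroup L).map π := Sylow.coe_mapSurjective hπs P₀
  have hπP : ∀ x : L, π x ∈ (P : Subgroup (L ⧸ Z)) ↔ (x : Y) ∈ (S : Subgroup Y) := fun x => by
    refine ⟨fun h => ?_, fun h => hPm ▸ mem_map_of_mem π ((hmP x).2 h)⟩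
    rw [hPm] at h
    obtain ⟨w, hw, e⟩ := h
    have := mul_mem ((hmP w).1 hw) (hZS _ (QuotientGroup.eq.1 e))
    simpa using this
  set AL := A.subgroupOf L with hAL
  set V := AL.map π with hV
  have hsc : Cfsg.IsStronglyClosed AL (P₀ : Subgroup L) := by
    refine ⟨fun x hx => (hmP x).2 (hAS hx), fun x hx g hg => ?_⟩
    have := (hmP _).1 hg
    push_cast at this
    show ((g * x * g⁻¹ : L) : Y) ∈ A
    push_cast
    exact hY.closed hAS hx this
  have hscV : Cfsg.IsStronglyClosed V (P : Subgroup (L ⧸ Z)) := StrongProd.sc_map hsc Z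
  have hVab : IsMulCommutative V := ⟨⟨by
    rintro ⟨_, a, ha, rfl⟩ ⟨_, b, hb', rfl⟩
    refine Subtype.ext ?_
    show π a * π b = π b * π a
    rw [← map_mul, ← map_mul, show a * b = b * a from Subtype.ext (hY.mem_comm ha hb')]⟩⟩
  have hVne : V ≠ ⊥ := fun h => he₀ (by
    have h1 : π ⟨e₀, he₀L⟩ = 1 := mem_bot.1 (h.le (mem_map_of_mem π (show (⟨e₀, he₀L⟩ : L) ∈ AL from he₀A)))
    exact ((mem_center_iff_cenL _).1 ((QuotientGroup.eq_one_iff _).1 h1)).2)
  have hT : GType (L ⧸ Z) := hb (L ⧸ Z) hna V hVne hVab ⟨P, hscV⟩ (Nat.lt_succ_of_le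
    ((Nat.le_of_dvd Nat.card_pos (Subgroup.card_quotient_dvd_card Z)).trans
      (Nat.le_of_dvd Nat.card_pos L.card_subgroup_dvd_card)))
  obtain ⟨W, hW⟩ := exists_typeData hna hT P
  -- an involution of the image
  obtain ⟨v₀, hv₀, hv₀W, hv₀1⟩ : ∃ v ∈ V, v ∈ W ∧ v ≠ 1 := by
    obtain ⟨k, hk⟩ := IsPGroup.iff_card.1 (P.2.to_le hscV.1 : IsPGroup 2 V)
    have hk0 : k ≠ 0 := fun e0 => hVne (Subgroup.card_eq_one.1 (by rw [hk, e0, pow_zero]))
    obtain ⟨x, hx⟩ := exists_prime_orderOf_dvd_card' 2 (hk ▸ dvd_pow_self 2 hk0 : 2 ∣ Nat.card V)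
    refine ⟨x, x.2, hW.invol _ (hscV.1 x.2) ?_, fun e => ?_⟩
    · rw [← pow_two, ← hx, ← Subgroup.orderOf_coe, pow_orderOf_eq_one]
    · rw [show x = 1 from Subtype.ext e, orderOf_one] at hx
      omega
  obtain ⟨h₁, h₁N, -, h₁t⟩ := hW.cyc.turn
  obtain ⟨l₁, hl₁⟩ := hπs h₁
  obtain ⟨a₀, ha₀, ha₀v⟩ := hv₀
  -- every involution lifts to a conjugate of `a₀`
  have hlift : ∀ v ∈ W, v ≠ 1 → ∃ a : L, (a : Y) ∈ A ∧ π a = v ∧ a * a = a₀ * a₀ := by
    intro v hv hv1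
    obtain ⟨i, hi⟩ := h₁t v₀ hv₀W hv₀1 v hv hv1
    have hsq : a₀ * a₀ ∈ Z := by
      refine (QuotientGroup.eq_one_iff _).1 ?_
      show π (a₀ * a₀) = 1
      rw [map_mul, ha₀v]
      exact hW.cyc.sq v₀ hv₀W
    have he : π (l₁ ^ i * a₀ * (l₁ ^ i)⁻¹) = v := by
      rw [map_mul, map_mul, map_inv, map_pow, hl₁, ha₀v]
      exact hi
    refine ⟨_, ?_, he, ?_⟩
    · have hmem := (hπP _).1 (he.symm ▸ hW.le hv)
      push_cast at hmem ⊢
      exact hY.closed hAS ha₀ hmem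
    · rw [show l₁ ^ i * a₀ * (l₁ ^ i)⁻¹ * (l₁ ^ i * a₀ * (l₁ ^ i)⁻¹) = l₁ ^ i * (a₀ * a₀) * (l₁ ^ i)⁻¹ by group,
        Subgroup.mem_center_iff.1 hsq, mul_inv_cancel_right]
  -- so to an involution
  have hlift2 : ∀ v ∈ W, v ≠ 1 → ∃ a : L, (a : Y) ∈ A ∧ π a = v ∧ a * a = 1 := by
    intro v hv hv1
    obtain ⟨v', hv', hv'1, hne'⟩ : ∃ v' ∈ W, v' ≠ 1 ∧ v' ≠ v := by
      by_contra hc
      push Not at hc
      have h2 : Nat.card W ≤ 2 := by
        have hle := Nat.card_le_card_of_surjective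
          (fun o : Option Unit => o.elim (1 : W) fun _ => ⟨v, hv⟩) fun w => by
            by_cases hw : (w : L ⧸ Z) = 1
            · exact ⟨none, Subtype.ext hw.symm⟩
            · exact ⟨some (), Subtype.ext (hc w w.2 hw).symm⟩
        simpa [Nat.card_eq_fintype_card] using hle
      have := hW.cyc.big
      omega
    have h3 : v * v' ≠ 1 := fun e => hne' (by
      rw [mul_eq_one_iff_eq_inv] at e
      rw [e, inv_eq_of_mul_eq_one_left (hW.cyc.sq v' hv')])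
    obtain ⟨a, haA, hav, ha2⟩ := hlift v hv hv1
    obtain ⟨b, hbA, hbv, hb2⟩ := hlift v' hv' hv'1
    obtain ⟨c, hcA, hcv, hc2⟩ := hlift (v * v') (mul_mem hv hv') h3
    have hcomm : ∀ {x y : L}, (x : Y) ∈ A → (y : Y) ∈ A → x * y = y * x := fun hx hy =>
      Subtype.ext (hY.mem_comm hx hy)
    set d := (a * b)⁻¹ * c with hd
    have hdA : (d : Y) ∈ A := by
      rw [hd]; push_cast; exact mul_mem (inv_mem (mul_mem haA hbA)) hcA
    refine ⟨a * d, mul_mem haA hdA, ?_, ?_⟩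
    · rw [map_mul, hd, map_mul, map_inv, map_mul, hav, hbv, hcv, inv_mul_cancel, mul_one]
    · -- squares multiply
      have hm : ∀ {x y : L}, (x : Y) ∈ A → (y : Y) ∈ A → x * y * (x * y) = x * x * (y * y) := fun {x y} hx hy => by
        rw [show x * y * (x * y) = x * (y * x) * y by group, hcomm hy hx]; group
      have hab : ((a * b : L) : Y) ∈ A := mul_mem haA hbA
      rw [hm haA hdA, hd, hm (show (((a * b)⁻¹ : L) : Y) ∈ A from inv_mem hab) hcA, hc2,
        show (a * b)⁻¹ * (a * b)⁻¹ = (a * b * (a * b))⁻¹ by group, hm haA hbA, ha2, hb2]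
      group
  refine ⟨P, W, hT, hW, hπP, fun x => ⟨fun hx => ?_, fun ⟨e, he, he2, hec⟩ => ?_⟩, fun x hx => ?_⟩
  · by_cases h1 : π x = 1
    · exact ⟨1, one_mem _, one_mul 1, by simpa using (mem_center_iff_cenL x).1 ((QuotientGroup.eq_one_iff _).1 h1)⟩
    obtain ⟨a, haA, hav, ha2⟩ := hlift2 _ hx h1
    exact ⟨a, ⟨haA, a.2⟩, congrArg Subtype.val ha2,
      by simpa using (mem_center_iff_cenL _).1 (QuotientGroup.eq.1 hav)⟩
  · have h1 : π x = π ⟨e, he.2⟩ := (QuotientGroup.eq.2 ((mem_center_iff_cenL _).2 (by simpa using hec))).symm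
    rw [h1]
    refine hW.invol _ ((hπP _).2 (hAS he.1)) ?_
    rw [← map_mul, show (⟨e, he.2⟩ : L) * ⟨e, he.2⟩ = 1 from Subtype.ext he2, map_one]
  -- nothing else
  have hWV : ∀ v ∈ W, v ∈ V := fun v hv => by
    by_cases h1 : v = 1
    · rw [h1]; exact one_mem _
    obtain ⟨a, haA, hav, -⟩ := hlift2 v hv h1
    exact ⟨a, haA, hav⟩
  have hxV : π x ∈ V := mem_map_of_mem π hx
  have hVP : ∀ v ∈ V, v ∈ (P : Subgroup (L ⧸ Z)) := fun v hv => hscV.1 hv
  rcases hW.alt with ⟨w, -, hwP, hwW, hwx⟩ | ⟨⟨h, -, hhP, hht, -⟩, -, -⟩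
  · by_contra hxW
    obtain ⟨n, hn⟩ : ∃ n, n = π x := ⟨_, rfl⟩
    rw [← hn] at hxV hxW
    have hwn : w * n * w⁻¹ ∈ V := hscV.2 n hxV w ((mem_normalizer_iff.1 hwP n).1 (hVP n hxV))
    set c := w * n * w⁻¹ * n⁻¹ with hc
    have hcV : c ∈ V := mul_mem hwn (inv_mem hxV)
    have hc2 : c * c = 1 := by
      rw [hc, show w * n * w⁻¹ * n⁻¹ * (w * n * w⁻¹ * n⁻¹) = w * n * w⁻¹ * (n⁻¹ * (w * n * w⁻¹)) * n⁻¹ by group,
        comm_of_comm hVab (inv_mem hxV) hwn,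
        show w * n * w⁻¹ * (w * n * w⁻¹ * n⁻¹) * n⁻¹ = w * (n * n) * w⁻¹ * (n * n)⁻¹ by group,
        hwW _ (hW.mod n (hVP n hxV)), mul_inv_cancel_right, mul_inv_cancel]
    have hcW := hW.invol c (hVP c hcV) hc2
    refine hxW (mover_fpf hW hwP hwW hwx n (hVP n hxV) ?_)
    rw [show n⁻¹ * (w * n * w⁻¹) = n⁻¹ * c * n by rw [hc]; group, mul_assoc,
      hW.central c hcW n (hVP n hxV), inv_mul_cancel_left]
    exact hcW
  · by_contra hxW
    have hhi : ∀ (i : ℕ), ∀ v ∈ V, h ^ i * v * (h ^ i)⁻¹ ∈ V := fun i v hv =>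
      hscV.2 v hv (h ^ i) ((mem_normalizer_iff.1 (pow_mem hhP i) v).1 (hVP v hv))
    have hPV : ∀ y ∈ (P : Subgroup (L ⧸ Z)), y ∈ V := fun y hy => by
      by_cases hyW : y ∈ W
      · exact hWV y hyW
      obtain ⟨i, hi⟩ := hht _ (hVP _ hxV) hxW y hy hyW
      have h1 := mul_mem (hhi i _ hxV) (inv_mem (hWV _ hi))
      convert h1 using 1
      group
    have hab : Ab2 (L ⧸ Z) := fun Q => ⟨⟨fun a b => (Sylow.equiv Q P).injective (by
      rw [map_mul, map_mul]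
      exact Subtype.ext (comm_of_comm hVab (hPV _ (Subtype.mem _)) (hPV _ (Subtype.mem _))))⟩⟩
    exact hxW (hW.invol _ (hVP _ hxV) (CI.sq_of_ab2 hna hab P _ (hVP _ hxV)))

end AbHyp

end Cfsg.Agent.Goldschmidt
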