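import Cfsg.Agent.Lib.Goldschmidt.Closed.Comp
import Cfsg.Agent.Lib.Goldschmidt.Local.Main
import Cfsg.Agent.Lib.Solv.Component

/-!
# The closure of an abelian strongly closed subgroup

The subgroup lies in the product of the moved components and a part centralising all of them; if its conjugates generate
the group, the group is that product times its centre.
-/

set_option autoImplicit false
set_option linter.style.haveILetI false
set_option linter.unusedSectionVars false

namespace Cfsg.Agent.Goldschmidt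

open Subgroup Cfsg.Agent Cfsg.Agent.Fusion
open scoped commutatorElement

universe u

variable {Y : Type u} [Group Y] [Finite Y]

/-- Components absorb an element one by one. -/
theorem absorb_family {U : Subgroup Y} {u : Y} (s : Finset (Subgroup Y)) (hs : ∀ L ∈ s, Cfsg.IsComponent L)
    (h : ∀ L ∈ s, ∃ e ∈ U ⊓ L, e⁻¹ * u ∈ centralizer (L : Set Y)) :
    ∃ e ∈ U ⊓ sSup (s : Set (Subgroup Y)), (∀ L ∈ s, e⁻¹ * u ∈ centralizer (L : Set Y)) ∧
      ∀ L : Subgroup Y, Cfsg.IsComponent L → L ∉ s → e ∈ centralizer (L : Set Y) := by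
  classical
  induction s using Finset.induction_on with
  | empty => exact ⟨1, one_mem _, fun L hL => absurd hL (Finset.notMem_empty L), fun L _ _ => one_mem _⟩
  | insert L₀ s hL₀ ih =>
    obtain ⟨e, he, hin, hout⟩ := ih (fun L hL => hs L (Finset.mem_insert_of_mem hL))
      fun L hL => h L (Finset.mem_insert_of_mem hL)
    have hL₀c := hs L₀ (Finset.mem_insert_self _ _)
    obtain ⟨e₀, he₀, hc₀⟩ := h L₀ (Finset.mem_insert_self _ _)
    have hother : ∀ L : Subgroup Y, Cfsg.IsComponent L → L ≠ L₀ → e₀ ∈ centralizer (L : Set Y) :=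
      fun L hL hne => commutator_eq_bot_iff_le_centralizer.1 (Solv.components_commute hL₀c hL (Ne.symm hne)) he₀.2
    have hee : e₀ * e = e * e₀ := mem_centralizer_iff.1 (hout L₀ hL₀c hL₀) e₀ he₀.2
    have hle : sSup (s : Set (Subgroup Y)) ≤ sSup ((insert L₀ s : Finset (Subgroup Y)) : Set (Subgroup Y)) :=
      sSup_le_sSup (Finset.coe_subset.2 (Finset.subset_insert L₀ s))
    have hle₀ : L₀ ≤ sSup ((insert L₀ s : Finset (Subgroup Y)) : Set (Subgroup Y)) :=
      le_sSup (Finset.mem_coe.2 (Finset.mem_insert_self _ _))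
    refine ⟨e * e₀, ⟨U.mul_mem he.1 he₀.1, mul_mem (hle he.2) (hle₀ he₀.2)⟩, fun L hL => ?_, fun L hL hne => ?_⟩
    · rcases Finset.mem_insert.1 hL with rfl | hL'
      · rw [← hee, show (e₀ * e)⁻¹ * u = e⁻¹ * (e₀⁻¹ * u) by group]
        exact mul_mem (inv_mem (hout L hL₀c hL₀)) hc₀
      · rw [show (e * e₀)⁻¹ * u = e₀⁻¹ * (e⁻¹ * u) by group]
        exact mul_mem (inv_mem (hother L (hs L hL) fun h' => hL₀ (h' ▸ hL'))) (hin L hL')
    · exact mul_mem (hout L hL fun h' => hne (Finset.mem_insert_of_mem h'))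
        (hother L hL fun h' => hne (h' ▸ Finset.mem_insert_self L₀ s))

omit [Finite Y] in
theorem movedLayer_le_sup {B L : Subgroup Y} (hL : Moved B L) :
    movedLayer B ≤ L ⊔ centralizer (L : Set Y) := sSup_le fun L' hL' => by
  by_cases h : L' = L
  · exact h ▸ le_sup_left
  · exact le_sup_of_le_right (commutator_eq_bot_iff_le_centralizer.1 (Solv.components_commute hL'.1 hL.1 h))

omit [Finite Y] in
theorem mem_sup_centralizer {L : Subgroup Y} {x : Y} (hx : x ∈ L ⊔ centralizer (L : Set Y)) :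
    ∃ l ∈ L, l⁻¹ * x ∈ centralizer (L : Set Y) := by
  rw [← SetLike.mem_coe, coe_mul_of_right_le_normalizer_left _ _ (centralizer_le_normalizer _)] at hx
  obtain ⟨l, hl, c, hc, rfl⟩ := hx
  exact ⟨l, hl, by simpa using hc⟩

namespace AbHyp

variable {A : Subgroup Y} (hY : AbHyp Y A) (hb : Below.{u} (Nat.card Y + 1)) {S : Sylow 2 Y}
  (hAS : A ≤ (S : Subgroup Y))
include hY hb hAS

omit hb in
theorem invPart_le_sylow : invPart A hY.ab ≤ (S : Subgroup Y) := fun _ h => hAS h.1

/-- The components moved by `A` are those moved by its involutions. -/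
theorem moved_iff {L : Subgroup Y} :
    Moved (invPart A hY.ab) L ↔ Cfsg.IsComponent L ∧ ¬ A ≤ centralizer (L : Set Y) := by
  refine ⟨fun h => ⟨h.1, fun hc => h.2 ((invPart_le hY.ab).trans hc)⟩, fun ⟨hL, hne⟩ => ⟨hL, fun hc => hne ?_⟩⟩
  have hC := hY.abComp hb hAS hL hne
  exact hY.centralises hAS hL fun e he heL g hg =>
    mem_centralizer_iff.1 (hc ⟨he, hC.sqA e ⟨he, heL⟩⟩) g hg

theorem moved_abComp {L : Subgroup Y} (h : Moved (invPart A hY.ab) L) : AbComp A L S := by
  obtain ⟨h1, h2⟩ := (hY.moved_iff hb hAS).1 h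
  exact hY.abComp hb hAS h1 h2

theorem movedLayer_normal : (movedLayer (invPart A hY.ab)).Normal :=
  (hY.localHyp hb).movedLayer_normal (hY.invPart_le_sylow hAS)

/-- An element acting like one of the Sylow subgroup of the component is fixed by the turn. -/
theorem mem_of_turn {L : Subgroup Y} (hC : AbComp A L S) {U : Subgroup Y}
    (hU : ∀ x ∈ U, ∀ g : Y, g * x * g⁻¹ ∈ (S : Subgroup Y) → g * x * g⁻¹ ∈ U) (hUA : U ⊓ L ≤ A) {u e : Y}
    (hu : u ∈ U) (huS : u ∈ (S : Subgroup Y)) (he : e ∈ (S : Subgroup Y) ⊓ L)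
    (hc : e⁻¹ * u ∈ centralizer (L : Set Y)) : e ∈ A := by
  obtain ⟨n, hnL, hnS, hn⟩ := hC.turn
  refine hn e he ?_
  have h1 : n * u * n⁻¹ = n * e * n⁻¹ * (e⁻¹ * u) := by
    calc n * u * n⁻¹ = n * e * ((e⁻¹ * u) * n⁻¹) := by group
      _ = n * e * (n⁻¹ * (e⁻¹ * u)) := by rw [← mem_centralizer_iff.1 hc _ (L.inv_mem hnL)]
      _ = _ := by group
  have h2 : n * u * n⁻¹ ∈ U := hU u hu n (by
    rw [h1]; exact mul_mem (hnS e he) (mul_mem (inv_mem he.1) huS))
  have h3 : n * e * n⁻¹ * e⁻¹ ∈ A := by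
    refine hUA ⟨?_, L.mul_mem (L.mul_mem (L.mul_mem hnL he.2) (L.inv_mem hnL)) (L.inv_mem he.2)⟩
    have h4 := U.mul_mem h2 (U.inv_mem hu)
    rw [h1] at h4
    rwa [show n * e * n⁻¹ * (e⁻¹ * u) * u⁻¹ = n * e * n⁻¹ * e⁻¹ by group] at h4
  have h5 := hY.sylow_conj hAS (inv_mem he.1) h3
  rwa [show e⁻¹ * (n * e * n⁻¹ * e⁻¹) * e⁻¹⁻¹ = e⁻¹ * (n * e * n⁻¹) by group] at h5

/-- An element of `A` acts on a moved component as an involution of it. -/
theorem span {L : Subgroup Y} (h : Moved (invPart A hY.ab) L) {a : Y} (ha : a ∈ A) :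
    ∃ e ∈ invPart A hY.ab ⊓ L, e⁻¹ * a ∈ centralizer (L : Set Y) := by
  have hC := hY.moved_abComp hb hAS h
  have haL := hY.normalises hAS h.1 ha
  obtain ⟨e, he, hc⟩ := hC.inner a (hAS ha) haL (fun e he => hY.mem_comm ha he.1) fun x hx => by
    have := mul_mem (hY.sylow_conj hAS (inv_mem hx.1) ha) (inv_mem ha)
    rwa [show x⁻¹ * a * x⁻¹⁻¹ * a⁻¹ = x⁻¹ * (a * x * a⁻¹) by group] at this
  have heA := hY.mem_of_turn hb hAS hC (U := A) (fun x hx g hg => hY.closed hAS hx hg) inf_le_left ha (hAS ha) he hc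
  exact ⟨e, ⟨⟨heA, hC.sqA e ⟨heA, he.2⟩⟩, he.2⟩, hc⟩

/-- **The subgroup lies in the moved components times what centralises them.** -/
theorem split {a : Y} (ha : a ∈ A) :
    ∃ e ∈ invPart A hY.ab ⊓ movedLayer (invPart A hY.ab), e⁻¹ * a ∈ A ∧
      ∀ L : Subgroup Y, Cfsg.IsComponent L → e⁻¹ * a ∈ centralizer (L : Set Y) := by
  classical
  haveI := Fintype.ofFinite (Subgroup Y)
  obtain ⟨e, he, hin, hout⟩ := absorb_family (U := invPart A hY.ab) (u := a)
    (Finset.univ.filter fun L => Moved (invPart A hY.ab) L) (fun L hL => (Finset.mem_filter.1 hL).2.1)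
    fun L hL => hY.span hb hAS (Finset.mem_filter.1 hL).2 ha
  refine ⟨e, ⟨he.1, (sSup_le_sSup fun L hL => (Finset.mem_filter.1 (Finset.mem_coe.1 hL)).2 :
    sSup _ ≤ movedLayer (invPart A hY.ab)) he.2⟩, mul_mem (inv_mem he.1.1) ha, fun L hL => ?_⟩
  by_cases hmv : Moved (invPart A hY.ab) L
  · exact hin L (Finset.mem_filter.2 ⟨Finset.mem_univ _, hmv⟩)
  · refine mul_mem (inv_mem (hout L hL fun h => hmv (Finset.mem_filter.1 h).2)) ?_
    exact (not_not.1 fun hc => hmv ((hY.moved_iff hb hAS).2 ⟨hL, hc⟩) : A ≤ centralizer (L : Set Y)) ha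

/-- What centralises the moved components inside them lies in `A`. -/
theorem central_mem {z : Y} (hz : z ∈ movedLayer (invPart A hY.ab))
    (hc : ∀ L, Moved (invPart A hY.ab) L → z ∈ centralizer (L : Set Y)) : z ∈ A := by
  classical
  haveI := Fintype.ofFinite (Subgroup Y)
  suffices key : ∀ s : Finset (Subgroup Y), (∀ L ∈ s, Moved (invPart A hY.ab) L) → ∀ z ∈ sSup (s : Set (Subgroup Y)),
      (∀ L ∈ s, z ∈ centralizer (L : Set Y)) → z ∈ A by
    refine key (Finset.univ.filter fun L => Moved (invPart A hY.ab) L) (fun L hL => (Finset.mem_filter.1 hL).2) z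
      ?_ fun L hL => hc L (Finset.mem_filter.1 hL).2
    exact (sSup_le_sSup fun L hL => Finset.mem_coe.2 (Finset.mem_filter.2 ⟨Finset.mem_univ _, hL⟩) :
      movedLayer (invPart A hY.ab) ≤ _) hz
  intro s
  induction s using Finset.induction_on with
  | empty =>
    intro _ z hz _
    rw [Finset.coe_empty, sSup_empty, mem_bot] at hz
    rw [hz]; exact one_mem A
  | insert L₀ s hL₀ ih =>
    intro hs z hz hzc
    have hmv := hs L₀ (Finset.mem_insert_self _ _)
    have hcen : sSup (s : Set (Subgroup Y)) ≤ centralizer (L₀ : Set Y) := sSup_le fun L hL =>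
      commutator_eq_bot_iff_le_centralizer.1 (Solv.components_commute (hs L (Finset.mem_insert_of_mem hL)).1 hmv.1
        fun h => hL₀ (h ▸ Finset.mem_coe.1 hL))
    rw [Finset.coe_insert, sSup_insert, ← SetLike.mem_coe,
      coe_mul_of_right_le_normalizer_left _ _ (hcen.trans (centralizer_le_normalizer _))] at hz
    obtain ⟨l, hl, w, hw, rfl⟩ := hz
    have hlc : l ∈ cenL L₀ := by
      have h1 := mul_mem (hzc L₀ (Finset.mem_insert_self _ _)) (inv_mem (hcen hw))
      rw [mul_inv_cancel_right] at h1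
      exact ⟨hl, h1⟩
    refine mul_mem ((hY.moved_abComp hb hAS hmv).cen hlc)
      (ih (fun L hL => hs L (Finset.mem_insert_of_mem hL)) w hw fun L hL => ?_)
    have hne : L ≠ L₀ := fun h => hL₀ (h ▸ hL)
    have h2 : l ∈ centralizer (L : Set Y) := commutator_eq_bot_iff_le_centralizer.1
      (Solv.components_commute hmv.1 (hs L (Finset.mem_insert_of_mem hL)).1 hne.symm) hl
    have h3 := mul_mem (inv_mem h2) (hzc L (Finset.mem_insert_of_mem hL))
    rwa [inv_mul_cancel_left] at h3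

/-- An involution of the Sylow subgroup acts as one of `A`. -/
theorem span_invol {L : Subgroup Y} (h : Moved (invPart A hY.ab) L) {t : Y} (ht : t ∈ (S : Subgroup Y))
    (ht2 : t * t = 1) (htL : t ∈ L ⊔ centralizer (L : Set Y)) :
    ∃ e ∈ A ⊓ L, e⁻¹ * t ∈ centralizer (L : Set Y) := by
  haveI : Fact (Nat.Prime 2) := ⟨Nat.prime_two⟩
  obtain ⟨l, hl, hc⟩ := mem_sup_centralizer htL
  have hC := hY.moved_abComp hb hAS h
  set c := l⁻¹ * t with hcdef
  have hlc : c * l = l * c := (mem_centralizer_iff.1 hc l hl).symm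
  have ht' : t = l * c := by rw [hcdef]; group
  have hll : l * l ∈ cenL L := by
    refine ⟨L.mul_mem hl hl, ?_⟩
    have h1 : l * l = (c * c)⁻¹ := eq_inv_of_mul_eq_one_left (by
      rw [← ht2, ht']
      calc l * l * (c * c) = l * (l * c) * c := by group
        _ = l * (c * l) * c := by rw [hlc]
        _ = l * c * (l * c) := by group)
    rw [h1]
    exact (centralizer (L : Set Y)).inv_mem ((centralizer (L : Set Y)).mul_mem hc hc)
  have hp : IsPGroup 2 (zpowers l) := by
    obtain ⟨j, hj⟩ := S.2 ⟨l * l, hY.cenL_le_sylow hAS h.1 hll⟩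
    have hj' : (l * l) ^ 2 ^ j = 1 := congrArg Subtype.val hj
    have hd : orderOf l ∣ 2 ^ (j + 1) := orderOf_dvd_of_pow_eq_one (by rw [pow_succ', pow_mul, pow_two, hj'])
    obtain ⟨k, -, hk⟩ := (Nat.dvd_prime_pow Nat.prime_two).1 hd
    exact IsPGroup.of_card (n := k) (by rw [Nat.card_zpowers, hk])
  have hN : l ∈ normalizer (((S : Subgroup Y) ⊓ L : Subgroup Y) : Set Y) := mem_normalizer_fintype fun x hx => by
    refine ⟨?_, L.mul_mem (L.mul_mem hl hx.2) (L.inv_mem hl)⟩
    have hcx : c * x * c⁻¹ = x := by rw [← mem_centralizer_iff.1 hc x hx.2, mul_inv_cancel_right]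
    have h1 : t * x * t⁻¹ = l * x * l⁻¹ := by
      rw [ht', show l * c * x * (l * c)⁻¹ = l * (c * x * c⁻¹) * l⁻¹ by group, hcx]
    rw [SetLike.mem_coe, ← h1]
    exact (S : Subgroup Y).mul_mem ((S : Subgroup Y).mul_mem ht hx.1) ((S : Subgroup Y).inv_mem ht)
  have hlS : l ∈ (S : Subgroup Y) ⊓ L := by
    have hsup := IsPGroup.to_sup_of_normal_left' (S.isPGroup'.to_le inf_le_left) hp (zpowers_le.2 hN)
    have he := (CI.comp_sylIn h.1 S).eq_of_le hsup le_sup_left (sup_le inf_le_right (zpowers_le.2 hl))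
    rw [← he]
    exact mem_sup_right (mem_zpowers l)
  exact ⟨l, ⟨hC.invol l hlS hll, hl⟩, hc⟩

section Generated

variable (hgen : normalClosure (A : Set Y) = ⊤)
include hgen

/-- **The group is the product of the moved components and its centre, which is `O₂`.** -/
theorem generated_struct :
    Cfsg.pCore 2 Y ⊔ commutator Y = ⊤ ∧ Cfsg.pCore 2 Y ≤ Subgroup.center Y ∧
      commutator Y = movedLayer (invPart A hY.ab) ∧ Cfsg.pCore 2 Y ≤ A ∧
      A = Cfsg.pCore 2 Y ⊔ Cfsg.omegaOne 2 (S : Subgroup Y) := by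
  classical
  haveI : Fact (Nat.Prime 2) := ⟨Nat.prime_two⟩
  haveI := Fintype.ofFinite (Subgroup Y)
  set E := movedLayer (invPart A hY.ab) with hE
  haveI hEn : E.Normal := hY.movedLayer_normal hb hAS
  haveI hO2 : (Cfsg.pCore 2 Y).Normal := Solv.pCore_normal 2
  set D := A ⊓ Cfsg.pCore 2 Y with hD
  haveI hDn : D.Normal := ⟨fun x hx y =>
    ⟨hY.closed hAS hx.1 ((Solv.pCore_isPGroup 2 : IsPGroup 2 (Cfsg.pCore 2 Y)).le_sylow_of_normal S
      (hO2.conj_mem x hx.2 y)), hO2.conj_mem x hx.2 y⟩⟩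
  have hDc : D ≤ Subgroup.center Y := fun d hd => by
    haveI : (centralizer (D : Set Y)).Normal := Solv.centralizer_normal_of_normal D
    have htop : (⊤ : Subgroup Y) ≤ centralizer (D : Set Y) := hgen ▸ Subgroup.normalClosure_le_normal fun a ha =>
      mem_centralizer_iff.2 fun d' hd' => hY.mem_comm hd'.1 ha
    exact Subgroup.mem_center_iff.2 fun y => (mem_centralizer_iff.1 (htop (mem_top y)) d hd).symm
  have hAED : A ≤ E ⊔ D := fun a ha => by
    obtain ⟨e, he, hea, hec⟩ := hY.split hb hAS ha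
    rw [show a = e * (e⁻¹ * a) by group]
    exact mul_mem (mem_sup_left he.2) (mem_sup_right ⟨hea, hY.mem_pCore hAS hea hec⟩)
  have hED : E ⊔ D = ⊤ := top_le_iff.1 (hgen ▸ Subgroup.normalClosure_le_normal hAED)
  have hEperf : ⁅E, E⁆ = E := le_antisymm (commutator_le_self _) (sSup_le fun L hL => by
    rw [← Solv.qs_self_commutator hL.1.2]
    exact commutator_mono (le_sSup hL) (le_sSup hL))
  have hcomm : commutator Y = E := by
    refine le_antisymm ?_ (hEperf ▸ commutator_mono le_top le_top)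
    rw [← QuotientGroup.ker_mk' E, _root_.commutator_def, Subgroup.commutator_le]
    intro x _ y _
    rw [MonoidHom.mem_ker, map_commutatorElement, commutatorElement_eq_one_iff_mul_comm]
    have hx : x ∈ E ⊔ D := hED ▸ mem_top x
    rw [Subgroup.mem_sup_of_normal_left] at hx
    obtain ⟨e, he, d, hd, rfl⟩ := hx
    rw [map_mul, show QuotientGroup.mk' E e = 1 from (QuotientGroup.eq_one_iff e).2 he, one_mul, ← map_mul,
      ← map_mul, (Subgroup.mem_center_iff.1 (hDc hd) y).symm]
  have hO2c : Cfsg.pCore 2 Y ≤ Subgroup.center Y := fun x hx => Subgroup.mem_center_iff.2 fun y => by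
    have hy : y ∈ E ⊔ D := hED ▸ mem_top y
    have hle : E ⊔ D ≤ centralizer ({x} : Set Y) := sup_le
      (sSup_le fun L hL l hl => mem_centralizer_singleton_iff.2 (by
        haveI := (Solv.pCore_isPGroup 2 : IsPGroup 2 (Cfsg.pCore 2 Y)).isNilpotent
        exact (mem_centralizer_iff.1 (commutator_eq_bot_iff_le_centralizer.1
          (Solv.component_commutes_solvable hL.1 hO2.isSubnormal inferInstance) hl) x hx).symm))
      fun d hd => mem_centralizer_singleton_iff.2 (Subgroup.mem_center_iff.1 (hDc hd) x).symm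
    exact mem_centralizer_singleton_iff.1 (hle hy)
  have hcA : Subgroup.center Y ≤ A := fun y hy => by
    have hy' : y ∈ E ⊔ D := hED ▸ mem_top y
    rw [Subgroup.mem_sup_of_normal_left] at hy'
    obtain ⟨e, he, d, hd, rfl⟩ := hy'
    refine mul_mem (hY.central_mem hb hAS he fun L _ => ?_) hd.1
    have h1 : e ∈ Subgroup.center Y := by
      have := mul_mem hy (inv_mem (hDc hd))
      rwa [mul_inv_cancel_right] at this
    exact mem_centralizer_iff.2 fun l _ => Subgroup.mem_center_iff.1 h1 l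
  have hcO : Subgroup.center Y ≤ Cfsg.pCore 2 Y := le_sSup
    (show Subgroup.center Y ∈ {N : Subgroup Y | N.Normal ∧ IsPGroup 2 N} from
      ⟨inferInstance, hY.pGroup.to_le hcA⟩)
  refine ⟨top_le_iff.1 ?_, hO2c, hcomm, hO2c.trans hcA, le_antisymm (fun a ha => ?_) (sup_le (hO2c.trans hcA) ?_)⟩
  · rw [← hED, hcomm]
    exact sup_le le_sup_right (le_sup_of_le_left inf_le_right)
  · obtain ⟨e, he, hea, hec⟩ := hY.split hb hAS ha
    rw [show a = e * (e⁻¹ * a) by group]
    exact mul_mem (mem_sup_right (subset_closure ⟨hAS he.1.1, (pow_two e).trans he.1.2⟩))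
      (mem_sup_left (hY.mem_pCore hAS hea hec))
  · refine (Subgroup.closure_le A).2 fun t ⟨ht, ht2⟩ => ?_
    obtain ⟨e, he, hin, hout⟩ := absorb_family (U := A) (u := t)
      (Finset.univ.filter fun L => Moved (invPart A hY.ab) L) (fun L hL => (Finset.mem_filter.1 hL).2.1)
      fun L hL => hY.span_invol hb hAS (Finset.mem_filter.1 hL).2 ht (by rw [← pow_two]; exact ht2) (by
        have h1 : t ∈ E ⊔ D := hED ▸ mem_top t
        exact (sup_le (movedLayer_le_sup (Finset.mem_filter.1 hL).2) (le_sup_of_le_right fun d hd =>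
          mem_centralizer_iff.2 fun l _ => Subgroup.mem_center_iff.1 (hDc hd) l) :
          E ⊔ D ≤ _) h1)
    rw [SetLike.mem_coe, show t = e * (e⁻¹ * t) by group]
    refine mul_mem he.1 (hcA (Subgroup.mem_center_iff.2 fun y => ?_))
    have hle : E ⊔ D ≤ centralizer ({e⁻¹ * t} : Set Y) := sup_le
      (sSup_le fun L hL l hl => mem_centralizer_singleton_iff.2
        (mem_centralizer_iff.1 (hin L (Finset.mem_filter.2 ⟨Finset.mem_univ _, hL⟩)) l hl))
      fun d hd => mem_centralizer_singleton_iff.2 (Subgroup.mem_center_iff.1 (hDc hd) _).symm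
    exact mem_centralizer_singleton_iff.1 (hle (hED ▸ mem_top y))

end Generated

end AbHyp

end Cfsg.Agent.Goldschmidt
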